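import Cfsg.Agent.Lib.JankoOne.Aut

/-!
The centraliser of an involution of J1 is a cyclic group of order 2 times the alternating group of degree 5.
Main result: `exists_involution_centralizer`.
-/

set_option autoImplicit false
set_option maxRecDepth 4000

namespace Cfsg.Agent.JankoOne

/-- Positions of a copy of the alternating group of degree 5 centralising `stab 3`, indexed by
`25 σ0 + 5 σ1 + σ2`. -/
def altPos : List (ℕ × ℕ) :=
  [(0, 0), (0, 0), (0, 0), (0, 0), (0, 0), (0, 0), (0, 0), (760, 0), (760, 2), (760, 4), (0, 0),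
  (35, 68), (0, 0), (35, 66), (35, 70), (0, 0), (503, 72), (503, 74), (0, 0), (503, 76), (0, 0),
  (1448, 113), (1448, 111), (1448, 109), (0, 0), (0, 0), (0, 0), (7, 32), (7, 30), (7, 34),
  (0, 0), (0, 0), (0, 0), (0, 0), (0, 0), (244, 71), (0, 0), (0, 0), (244, 67), (244, 69),
  (1348, 17), (0, 0), (1348, 15), (0, 0), (1348, 13), (1426, 96), (0, 0), (1426, 98), (1426, 100),
  (0, 0), (0, 0), (729, 51), (0, 0), (729, 53), (729, 49), (1077, 2), (0, 0), (0, 0), (1077, 0),
  (1077, 4), (0, 0), (0, 0), (0, 0), (0, 0), (0, 0), (672, 54), (672, 56), (0, 0), (0, 0),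
  (672, 58), (996, 42), (996, 46), (0, 0), (996, 44), (0, 0), (0, 0), (720, 16), (720, 14),
  (0, 0), (720, 12), (1368, 13), (0, 0), (1368, 15), (0, 0), (1368, 17), (865, 47), (865, 45),
  (0, 0), (0, 0), (865, 43), (0, 0), (0, 0), (0, 0), (0, 0), (0, 0), (1189, 50), (1189, 52),
  (1189, 48), (0, 0), (0, 0), (0, 0), (1325, 70), (1325, 66), (1325, 68), (0, 0), (487, 90),
  (0, 0), (487, 94), (487, 92), (0, 0), (1098, 112), (1098, 108), (0, 0), (1098, 110), (0, 0),
  (652, 56), (652, 54), (652, 58), (0, 0), (0, 0), (0, 0), (0, 0), (0, 0), (0, 0), (0, 0)]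

/-- The positions of the products with the involution. -/
def altPosT : List (ℕ × ℕ) :=
  [(0, 0), (0, 0), (0, 0), (0, 0), (0, 0), (0, 0), (0, 0), (760, 3), (760, 5), (760, 1), (0, 0),
  (35, 71), (0, 0), (35, 69), (35, 67), (0, 0), (503, 75), (503, 77), (0, 0), (503, 73), (0, 0),
  (1448, 110), (1448, 108), (1448, 112), (0, 0), (0, 0), (0, 0), (7, 35), (7, 33), (7, 31),
  (0, 0), (0, 0), (0, 0), (0, 0), (0, 0), (244, 68), (0, 0), (0, 0), (244, 70), (244, 66),
  (1348, 14), (0, 0), (1348, 12), (0, 0), (1348, 16), (1426, 99), (0, 0), (1426, 101), (1426, 97),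
  (0, 0), (0, 0), (729, 48), (0, 0), (729, 50), (729, 52), (1077, 5), (0, 0), (0, 0), (1077, 3),
  (1077, 1), (0, 0), (0, 0), (0, 0), (0, 0), (0, 0), (672, 57), (672, 59), (0, 0), (0, 0),
  (672, 55), (996, 45), (996, 43), (0, 0), (996, 47), (0, 0), (0, 0), (720, 13), (720, 17),
  (0, 0), (720, 15), (1368, 16), (0, 0), (1368, 12), (0, 0), (1368, 14), (865, 44), (865, 42),
  (0, 0), (0, 0), (865, 46), (0, 0), (0, 0), (0, 0), (0, 0), (0, 0), (1189, 53), (1189, 49),
  (1189, 51), (0, 0), (0, 0), (0, 0), (1325, 67), (1325, 69), (1325, 71), (0, 0), (487, 93),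
  (0, 0), (487, 91), (487, 95), (0, 0), (1098, 109), (1098, 111), (0, 0), (1098, 113), (0, 0),
  (652, 59), (652, 57), (652, 55), (0, 0), (0, 0), (0, 0), (0, 0), (0, 0), (0, 0), (0, 0)]

/-- The index of an even permutation. -/
def altIdx (σ : Equiv.Perm (Fin 5)) : ℕ := 25 * (σ 0 : ℕ) + 5 * (σ 1 : ℕ) + (σ 2 : ℕ)

/-- The position of the image of a pair. -/
def pairPos (z : Fin 2) (σ : Equiv.Perm (Fin 5)) : ℕ × ℕ :=
  (if z = 0 then altPos else altPosT).getD (altIdx σ) (0, 0)

/-- Multiplicativity on codes. -/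
def mulOk (σ τ : Equiv.Perm (Fin 5)) : Bool :=
  mulC (eltC (pairPos 0 σ)) (eltC (pairPos 0 τ)) == eltC (pairPos 0 (σ * τ))

/-- Membership in the table. -/
def inTable (u : ℕ × ℕ) : Bool := altPos.contains u || altPosT.contains u

/-- Everything commuting with `stab 3` is in the table. -/
def scanThree : Bool :=
  (List.range 1540).all fun i =>
    let w := mulC (trC (rep i)) (mulC (stab 3) (rep i))
    !((List.range 114).any fun l => stab l == w) ||
      (List.range 114).all fun k =>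
        !(mulC (stab 3) (mulC (rep i) (stab k)) == mulC (mulC (rep i) (stab k)) (stab 3)) ||
          inTable (i, k)

theorem scanThree_eq : scanThree = true := by decide +kernel

theorem pair_ok : ∀ σ : Equiv.Perm (Fin 5), Equiv.Perm.sign σ = 1 →
    okPos (pairPos 0 σ) = true ∧ okPos (pairPos 1 σ) = true ∧
      chkEq [(760, 3), pairPos 0 σ] [pairPos 1 σ] = true ∧
      chkEq [(760, 3), pairPos 0 σ] [pairPos 0 σ, (760, 3)] = true ∧
      (σ = 1 ∨ chkNe [pairPos 0 σ] [] = true) ∧ chkNe [pairPos 1 σ] [] = true := by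
  decide +kernel

theorem mul_ok : ∀ σ : Equiv.Perm (Fin 5), Equiv.Perm.sign σ = 1 →
    ∀ τ : Equiv.Perm (Fin 5), Equiv.Perm.sign τ = 1 → mulOk σ τ = true := by
  decide +kernel

theorem table_hit : ∀ u ∈ altPos ++ altPosT, u = (0, 0) ∨
    ∃ z : Fin 2, ∃ σ : Equiv.Perm (Fin 5), Equiv.Perm.sign σ = 1 ∧ pairPos z σ = u := by
  decide +kernel

theorem table_zero : inTable (0, 0) = true → mulC (stab 3) (eltC (0, 0)) ≠ mulC (eltC (0, 0)) (stab 3) := by
  decide +kernel

/-- An involution. -/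
noncomputable def oT : ↥Cfsg.Spor.J1 := jel (760, 3)

theorem orderOf_oT : orderOf oT = 2 := orderOf_jel (by norm_num) _ (by decide +kernel)

theorem coe_oT : (oT : GL (Fin 7) (ZMod 11)) = gl (stab 3) := by
  rw [oT, val_jel (by decide +kernel)]
  exact congrArg gl (by decide +kernel)

/-- The copy of the alternating group. -/
noncomputable def altHom : ↥(alternatingGroup (Fin 5)) →* ↥Cfsg.Spor.J1 :=
  MonoidHom.mk' (fun σ => jel (pairPos 0 σ.1)) fun σ τ => by
    refine Subtype.ext ?_
    rw [Subgroup.coe_mul, Subgroup.coe_mul, val_jel (pair_ok (σ.1 * τ.1) (σ * τ).2).1, val_jel (pair_ok _ σ.2).1,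
      val_jel (pair_ok _ τ.2).1]
    have h : ∀ {u : ℕ × ℕ}, okPos u = true → okC (eltC u) = true := fun h => by
      simp only [okPos, Bool.and_eq_true] at h
      exact h.2
    refine (gl_mul (h (pair_ok _ σ.2).1) (h (pair_ok _ τ.2).1) (h (pair_ok _ (σ * τ).2).1) ?_).symm
    simpa [mulOk] using mul_ok _ σ.2 _ τ.2

theorem commute_altHom (σ : ↥(alternatingGroup (Fin 5))) : Commute oT (altHom σ) := by
  simpa [Commute, SemiconjBy, oT, altHom] using jprod_eq (pair_ok _ σ.2).2.2.2.1

theorem oT_mul_altHom (σ : ↥(alternatingGroup (Fin 5))) : oT * altHom σ = jel (pairPos 1 σ.1) := by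
  simpa [oT, altHom] using jprod_eq (pair_ok _ σ.2).2.2.1

theorem exists_of_commute {g : ↥Cfsg.Spor.J1} (hg : Commute oT g) :
    ∃ σ, g = altHom σ ∨ g = oT * altHom σ := by
  obtain ⟨i, hi, k, hk, e⟩ := exists_elt g.2
  have hg' : (oT : GL (Fin 7) (ZMod 11)) * (g : GL (Fin 7) (ZMod 11)) =
      (g : GL (Fin 7) (ZMod 11)) * (oT : GL (Fin 7) (ZMod 11)) := congrArg Subtype.val hg.eq
  rw [coe_oT, e, elt] at hg'
  have h2 : okC (stab 3) = true := stab_ok (by norm_num)
  have hR : okC (rep i) = true := (ptFacts hi).ok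
  have hS : okC (stab k) = true := stab_ok hk
  have hcR := canon_of_ok hR
  have hcS := canon_of_ok hS
  have hc2 := canon_of_ok h2
  have hmat : toM (stab 3) * (toM (rep i) * toM (stab k)) = toM (rep i) * toM (stab k) * toM (stab 3) := by
    rw [← val_gl h2, ← val_gl hR, ← val_gl hS, ← Units.val_mul, ← Units.val_mul, ← Units.val_mul, hg']
  have hct : canon (trC (rep i)) = true := by
    simp only [okC, Bool.and_eq_true] at hR
    exact hR.1.1.2
  have hscan := List.all_eq_true.1 scanThree_eq i (List.mem_range.2 hi)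
  simp only [Bool.or_eq_true, Bool.not_eq_true', List.all_eq_true, List.mem_range,
    List.any_eq_false, beq_iff_eq, beq_eq_false_iff_ne] at hscan
  have hcomm : mulC (stab 3) (mulC (rep i) (stab k)) = mulC (mulC (rep i) (stab k)) (stab 3) := by
    refine toM_inj (canon_mulC _ _ hc2 (canon_mulC _ _ hcR hcS))
      (canon_mulC _ _ (canon_mulC _ _ hcR hcS) hc2) ?_
    rw [toM_mulC hc2 (canon_mulC _ _ hcR hcS), toM_mulC (canon_mulC _ _ hcR hcS) hc2,
      toM_mulC hcR hcS, hmat]
  have hin : ∃ l < 114, stab l = mulC (trC (rep i)) (mulC (stab 3) (rep i)) := by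
    obtain ⟨l, hl, el'⟩ := exists_stab
      (mul_mem (mul_mem (stab_mem k hk) (stab_mem 3 (by norm_num))) (inv_mem (stab_mem k hk)))
    refine ⟨l, hl, ?_⟩
    have hl' : toM (stab l) = toM (trC (rep i)) * (toM (stab 3) * toM (rep i)) := by
      rw [← val_gl (stab_ok hl), ← el', Units.val_mul, Units.val_mul]
      rw [val_gl h2, val_gl hS]
      have hinv : (((gl (stab k))⁻¹ : GL (Fin 7) (ZMod 11)) : Matrix (Fin 7) (Fin 7) (ZMod 11)) =
          toM (trC (stab k)) := by rw [gl, dif_pos hS]; rfl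
      rw [hinv]
      calc toM (stab k) * toM (stab 3) * toM (trC (stab k))
          = toM (trC (rep i)) * (toM (rep i) * toM (stab k) * toM (stab 3)) * toM (trC (stab k)) := by
            rw [← Matrix.mul_assoc (toM (trC (rep i))), ← Matrix.mul_assoc (toM (trC (rep i))),
              (mul_trC hR).2, Matrix.one_mul]
        _ = toM (trC (rep i)) * (toM (stab 3) * toM (rep i)) * (toM (stab k) * toM (trC (stab k))) := by
            rw [← hmat]; simp only [Matrix.mul_assoc]
        _ = _ := by rw [(mul_trC hS).1, Matrix.mul_one]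
    refine toM_inj (canon_of_ok (stab_ok hl)) (canon_mulC _ _ hct (canon_mulC _ _ hc2 hcR)) ?_
    rw [hl', toM_mulC hct (canon_mulC _ _ hc2 hcR), toM_mulC hc2 hcR]
  rcases hscan with h | h
  · obtain ⟨l, hl, el'⟩ := hin
    exact absurd el' (h l hl)
  have h' := (h k hk).resolve_left fun h' => h' hcomm
  have hmem : (i, k) ∈ altPos ++ altPosT := by
    simp only [inTable, Bool.or_eq_true, List.contains_iff_mem] at h'
    exact List.mem_append.2 h'
  have hne : (i, k) ≠ (0, 0) := fun he => table_zero (he ▸ h') (by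
    simp only [Prod.mk.injEq] at he
    obtain ⟨rfl, rfl⟩ := he
    exact hcomm)
  obtain ⟨z, σ, hσ, hz⟩ := (table_hit _ hmem).resolve_left hne
  have hgj : g = jel (i, k) := Subtype.ext (by rw [e, jel, dif_pos ⟨hi, hk⟩])
  refine ⟨⟨σ, hσ⟩, ?_⟩
  fin_cases z
  · exact Or.inl (by rw [hgj, ← hz]; rfl)
  · exact Or.inr (by rw [hgj, ← hz, oT_mul_altHom]; rfl)

theorem exists_involution_centralizer : ∃ t : ↥Cfsg.Spor.J1, orderOf t = 2 ∧
    Nonempty (↥(Subgroup.centralizer ({t} : Set ↥Cfsg.Spor.J1)) ≃*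
      Multiplicative (ZMod 2) × ↥(alternatingGroup (Fin 5))) := by
  refine ⟨oT, orderOf_oT, ?_⟩
  have hcases : ∀ z : Multiplicative (ZMod 2), z = 1 ∨ z = Multiplicative.ofAdd 1 := by decide
  have hT2 : oT * oT = 1 := by rw [← pow_two, ← orderOf_oT, pow_orderOf_eq_one]
  let zT : Multiplicative (ZMod 2) →* ↥Cfsg.Spor.J1 :=
    MonoidHom.mk' (fun z => if z = 1 then 1 else oT) fun z w => by
      rcases hcases z with rfl | rfl <;> rcases hcases w with rfl | rfl
      · simp
      · simp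
      · simp
      · rw [if_pos (by decide), if_neg (by decide), hT2]
  have hz1 : zT (Multiplicative.ofAdd 1) = oT := by
    show (if Multiplicative.ofAdd (1 : ZMod 2) = 1 then (1 : ↥Cfsg.Spor.J1) else oT) = oT
    rw [if_neg (by decide)]
  have hcomm : ∀ z σ, Commute (zT z) (altHom σ) := fun z σ => by
    rcases hcases z with rfl | rfl
    · rw [map_one]; exact Commute.one_left _
    · rw [hz1]; exact commute_altHom σ
  let f := MonoidHom.noncommCoprod zT altHom hcomm
  have hrange : f.range = Subgroup.centralizer ({oT} : Set ↥Cfsg.Spor.J1) := by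
    refine le_antisymm ?_ fun g hg => ?_
    · rintro _ ⟨⟨z, σ⟩, rfl⟩
      rw [Subgroup.mem_centralizer_iff]
      intro y hy
      rw [Set.mem_singleton_iff.1 hy]
      have h1 : Commute oT (zT z) := by rw [← hz1]; exact (Commute.all _ z).map zT
      exact (h1.mul_right (commute_altHom σ)).eq
    · obtain ⟨σ, h | h⟩ := exists_of_commute (Subgroup.mem_centralizer_iff.1 hg oT rfl)
      · exact ⟨(1, σ), by simp [f, h]⟩
      · exact ⟨(Multiplicative.ofAdd 1, σ), by simp [f, h, hz1]⟩
  have hinj : Function.Injective f := by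
    rw [← MonoidHom.ker_eq_bot_iff, Subgroup.eq_bot_iff_forall]
    rintro ⟨z, σ⟩ h
    rw [MonoidHom.mem_ker] at h
    rcases hcases z with rfl | rfl
    · rcases (pair_ok _ σ.2).2.2.2.2.1 with h1 | h1
      · simp [Subtype.ext_iff, h1, Prod.ext_iff]
      · exact absurd (by simpa [f, altHom] using h) (jprod_ne h1)
    · exact absurd (by simpa [f, hz1, oT_mul_altHom] using h) (jprod_ne (pair_ok _ σ.2).2.2.2.2.2)
  exact ⟨((MonoidHom.ofInjective hinj).trans (MulEquiv.subgroupCongr hrange)).symm⟩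

end Cfsg.Agent.JankoOne
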