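import Cfsg.Agent.Lib.JankoOne.Elements
import Cfsg.Agent.Lib.Janko.Card

/-!
J1 is simple.
Main results: `card_centralizer_of_prime_order`, `card_normalizer_dvd`, `isSimpleGroup_j1`.
-/

set_option autoImplicit false

namespace Cfsg.Agent.JankoOne

/-- A prime at least 7 in the order of J1. -/
theorem big_prime_dvd {p q m : ℕ} (hq : q.Prime)
    (hp : p = 7 ∨ p = 11 ∨ p = 19) (hne : q ≠ p)
    (hm : m = 6 ∨ m = 7 ∨ m = 10 ∨ m = 11 ∨ m = 15 ∨ m = 19) : ¬ p * q ∣ m := by
  intro h
  have h2 := hq.two_le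
  have hpm : p ∣ m := (dvd_mul_right p q).trans h
  have : p * q ≤ m := Nat.le_of_dvd (by omega) h
  rcases hp with rfl | rfl | rfl <;> rcases hm with rfl | rfl | rfl | rfl | rfl | rfl <;>
    norm_num at hpm <;> omega

theorem card_centralizer_of_prime_order {p : ℕ} (hp : p = 7 ∨ p = 11 ∨ p = 19) (x : ↥Cfsg.Spor.J1)
    (hx : orderOf x = p) : Nat.card (Subgroup.centralizer ({x} : Set ↥Cfsg.Spor.J1)) = p := by
  have hpp : p.Prime := by rcases hp with rfl | rfl | rfl <;> norm_num
  have := Fact.mk hpp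
  set C := Subgroup.centralizer ({x} : Set ↥Cfsg.Spor.J1) with hC
  have hxC : x ∈ C := Subgroup.mem_centralizer_iff.2 fun y hy => by rw [Set.mem_singleton_iff.1 hy]
  have hq : ∀ q : ℕ, q.Prime → q ∣ Nat.card C → q = p := by
    intro q hq hd
    by_contra hne
    have := Fact.mk hq
    obtain ⟨g, hg⟩ := exists_prime_orderOf_dvd_card' q hd
    have hgx : Commute (g : ↥Cfsg.Spor.J1) x :=
      (Subgroup.mem_centralizer_iff.1 g.2 x (Set.mem_singleton x)).symm
    have hgo : orderOf (g : ↥Cfsg.Spor.J1) = q := by rw [Subgroup.orderOf_coe, hg]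
    have ho : orderOf (x * (g : ↥Cfsg.Spor.J1)) = p * q := by
      rw [Commute.orderOf_mul_eq_mul_orderOf_of_coprime hgx.symm, hx, hgo]
      rw [hx, hgo]
      exact (Nat.coprime_primes hpp hq).2 fun e => hne e.symm
    obtain ⟨m, hm, he⟩ := Janko.exponents (x * (g : ↥Cfsg.Spor.J1))
    exact big_prime_dvd hq hp hne hm (ho ▸ orderOf_dvd_of_pow_eq_one he)
  have hdvd : Nat.card C ∣ 175560 := natCard_j1 ▸ C.card_subgroup_dvd_card
  have hpd : p ∣ Nat.card C := by
    rw [← hx, ← Subgroup.orderOf_mk x hxC]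
    exact orderOf_dvd_natCard _
  have h := Nat.eq_prime_pow_of_unique_prime_dvd Nat.card_pos.ne' fun {d} hd1 hd2 => hq d hd1 hd2
  rw [h] at hdvd hpd ⊢
  rcases Nat.lt_or_ge (Nat.card C).primeFactorsList.length 2 with hl | hl
  · interval_cases (Nat.card C).primeFactorsList.length
    · exact absurd (Nat.le_of_dvd one_pos hpd) (not_le.2 hpp.one_lt)
    · exact pow_one p
  · exfalso
    have h2 := (pow_dvd_pow p hl).trans hdvd
    rcases hp with rfl | rfl | rfl <;> norm_num at h2

theorem card_normalizer_dvd {p : ℕ} (hp : p = 7 ∨ p = 11 ∨ p = 19) (x : ↥Cfsg.Spor.J1)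
    (hx : orderOf x = p) :
    Nat.card (Subgroup.normalizer (Subgroup.zpowers x : Set ↥Cfsg.Spor.J1)) ∣ p * (p - 1) := by
  have hpp : p.Prime := by rcases hp with rfl | rfl | rfl <;> norm_num
  set N := Subgroup.normalizer (Subgroup.zpowers x : Set ↥Cfsg.Spor.J1)
  set f := (Subgroup.zpowers x).normalizerMonoidHom with hf
  rw [← f.ker.card_mul_index, Subgroup.index_ker]
  refine Nat.mul_dvd_mul ?_ ((Subgroup.card_subgroup_dvd_card _).trans (dvd_of_eq ?_))
  · rw [hf, Subgroup.normalizerMonoidHom_ker]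
    have h1 : Subgroup.centralizer (Subgroup.zpowers x : Set ↥Cfsg.Spor.J1) =
        Subgroup.centralizer {x} := by
      rw [Subgroup.zpowers_eq_closure, Subgroup.centralizer_closure]
    rw [Nat.card_congr (Subgroup.subgroupOfEquivOfLe (Subgroup.centralizer_le_normalizer _)).toEquiv,
      h1, card_centralizer_of_prime_order hp x hx]
  · rw [IsCyclic.card_mulAut, Nat.card_zpowers, hx, Nat.totient_prime hpp]

theorem index_dvd_normalizer {p : ℕ} (hp : p = 7 ∨ p = 11 ∨ p = 19) (x : ↥Cfsg.Spor.J1)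
    (hx : orderOf x = p) (N : Subgroup ↥Cfsg.Spor.J1) [N.Normal] (hN : p ∣ Nat.card N) :
    N.index ∣ p * (p - 1) := by
  have hpp : p.Prime := by rcases hp with rfl | rfl | rfl <;> norm_num
  have := Fact.mk hpp
  have hsyl : ¬ p ∣ (Subgroup.zpowers x).index := by
    intro h
    have h1 := Subgroup.card_mul_index (Subgroup.zpowers x)
    rw [Nat.card_zpowers, hx, natCard_j1] at h1
    have h2 : p * p ∣ 175560 := h1 ▸ Nat.mul_dvd_mul_left p h
    rcases hp with rfl | rfl | rfl <;> norm_num at h2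
  let P : Sylow p ↥Cfsg.Spor.J1 :=
    (IsPGroup.of_card (n := 1) (by rw [Nat.card_zpowers, hx, pow_one]) :
      IsPGroup p (Subgroup.zpowers x)).toSylow hsyl
  obtain ⟨y, hy⟩ := exists_prime_orderOf_dvd_card' p hN
  obtain ⟨Q, hQ⟩ := (IsPGroup.of_card (n := 1)
    (by rw [Nat.card_zpowers, Subgroup.orderOf_coe, hy, pow_one]) :
      IsPGroup p (Subgroup.zpowers (y : ↥Cfsg.Spor.J1))).exists_le_sylow
  obtain ⟨g, hg⟩ := MulAction.exists_smul_eq ↥Cfsg.Spor.J1 Q P
  have hPN : (P : Subgroup ↥Cfsg.Spor.J1) ≤ N := by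
    have hxQ : Subgroup.zpowers (y : ↥Cfsg.Spor.J1) = (Q : Subgroup _) := by
      refine Subgroup.eq_of_le_of_card_ge hQ ?_
      rw [show Nat.card (Q : Subgroup ↥Cfsg.Spor.J1) = Nat.card (P : Subgroup ↥Cfsg.Spor.J1) from
        Q.card_eq_multiplicity.trans P.card_eq_multiplicity.symm, Nat.card_zpowers,
        Subgroup.orderOf_coe, hy]
      exact (Nat.card_zpowers x).trans hx |>.le
    rw [← hg, Sylow.coe_subgroup_smul, ← hxQ]
    rintro z ⟨w, hw, rfl⟩
    exact Subgroup.Normal.conj_mem inferInstance w (Subgroup.zpowers_le.2 y.2 hw) g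
  have htop := Sylow.normalizer_sup_eq_top' P hPN
  have h1 : N.index = N.relIndex (Subgroup.normalizer (Subgroup.zpowers x : Set ↥Cfsg.Spor.J1)) := by
    rw [← Subgroup.relIndex_sup_left (H := Subgroup.normalizer _) (K := N), ← Subgroup.relIndex_top_right]
    rw [sup_comm, show Subgroup.normalizer (Subgroup.zpowers x : Set ↥Cfsg.Spor.J1) ⊔ N = ⊤ from htop]
  rw [h1]
  exact (N.relIndex_dvd_card _).trans (card_normalizer_dvd hp x hx)

theorem card_modEq_one {p : ℕ} (hp : p = 7 ∨ p = 11 ∨ p = 19) (x : ↥Cfsg.Spor.J1)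
    (hx : orderOf x = p) (N : Subgroup ↥Cfsg.Spor.J1) [N.Normal] (hN : ¬ p ∣ Nat.card N) :
    Nat.card N ≡ 1 [MOD p] := by
  have hpp : p.Prime := by rcases hp with rfl | rfl | rfl <;> norm_num
  have := Fact.mk hpp
  let _act : MulAction (Subgroup.zpowers x) N :=
    MulAction.compHom N ((MulAut.conjNormal (H := N)).comp (Subgroup.zpowers x).subtype)
  have hP : IsPGroup p (Subgroup.zpowers x) :=
    IsPGroup.of_card (n := 1) (by rw [Nat.card_zpowers, hx, pow_one])
  refine (hP.card_modEq_card_fixedPoints N).trans ?_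
  rw [show Nat.card (MulAction.fixedPoints (Subgroup.zpowers x) N) = 1 from ?_]
  refine Nat.card_eq_one_iff_unique.2 ⟨⟨fun a b => ?_⟩, ⟨⟨1, fun g => map_one (MulAut.conjNormal (g : ↥Cfsg.Spor.J1))⟩⟩⟩
  have key : ∀ a : MulAction.fixedPoints (Subgroup.zpowers x) N, (a : N) = 1 := by
    intro a
    have h1 := congrArg Subtype.val (a.2 ⟨x, Subgroup.mem_zpowers x⟩)
    replace h1 : x * ((a : N) : ↥Cfsg.Spor.J1) * x⁻¹ = (a : N) := h1
    have ha : ((a : N) : ↥Cfsg.Spor.J1) ∈ Subgroup.centralizer ({x} : Set ↥Cfsg.Spor.J1) := by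
      rw [Subgroup.mem_centralizer_iff]
      intro y hy
      rw [Set.mem_singleton_iff.1 hy]
      exact mul_inv_eq_iff_eq_mul.1 h1
    have h2 := orderOf_dvd_natCard (G := Subgroup.centralizer ({x} : Set ↥Cfsg.Spor.J1)) ⟨_, ha⟩
    rw [Subgroup.orderOf_mk, card_centralizer_of_prime_order hp x hx, Subgroup.orderOf_coe] at h2
    rcases (Nat.dvd_prime hpp).1 h2 with h3 | h3
    · exact orderOf_eq_one_iff.1 h3
    · exact absurd (h3 ▸ orderOf_dvd_natCard (a : N)) hN
  exact Subtype.ext ((key a).trans (key b).symm)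

theorem isSimpleGroup_j1 : IsSimpleGroup ↥Cfsg.Spor.J1 := by
  have : Nontrivial ↥Cfsg.Spor.J1 := Finite.one_lt_card_iff_nontrivial.1 (by rw [natCard_j1]; norm_num)
  refine ⟨fun N hN => ?_⟩
  have hmul := N.card_mul_index
  rw [natCard_j1] at hmul
  have h19 := index_dvd_normalizer (p := 19) (by simp) jNineteen orderOf_jNineteen N
  have h11 := index_dvd_normalizer (p := 11) (by simp) jEleven orderOf_jEleven N
  have h7 := index_dvd_normalizer (p := 7) (by simp) jSeven orderOf_jSeven N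
  by_cases c19 : 19 ∣ Nat.card N
  · right
    have hi := h19 c19
    have c11 : 11 ∣ Nat.card N := by
      refine ((Nat.Prime.dvd_mul (by norm_num : Nat.Prime 11)).1
        (show 11 ∣ Nat.card N * N.index by rw [hmul]; norm_num)).resolve_right fun h => ?_
      have := h.trans hi
      norm_num at this
    have h2 : N.index ∣ 2 := by simpa using Nat.dvd_gcd hi (h11 c11)
    rcases (Nat.dvd_prime Nat.prime_two).1 h2 with h | h
    · exact Subgroup.index_eq_one.1 h
    exfalso
    have hn : jN ∈ N := by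
      have e : jN = (jN ^ 4) ^ 2 := by
        rw [← pow_mul, show 4 * 2 = orderOf jN + 1 by rw [orderOf_jN], pow_succ, pow_orderOf_eq_one, one_mul]
      rw [e]
      exact Subgroup.sq_mem_of_index_two h _
    have hq : ∀ u v : ↥Cfsg.Spor.J1, jN * u * jN⁻¹ = v → (u ∈ N ↔ v ∈ N) := fun u v e => by
      rw [← e]
      exact ⟨fun hu => N.mul_mem (N.mul_mem hn hu) (N.inv_mem hn), fun hv => by
        simpa [mul_assoc] using Subgroup.Normal.conj_mem hN _ hv jN⁻¹⟩
    have hab := hq _ _ jN_jA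
    have hbc := hq _ _ jN_jB
    have hcab := hq _ _ jN_jC
    have hA : jA ∈ N := by
      by_contra hA
      exact (hbc.not.1 (hab.not.1 hA)) (hcab.2 ((Subgroup.mul_mem_iff_of_index_two h).2
        (iff_of_false hA (hab.not.1 hA))))
    have hle : Subgroup.closure {jA, jB, jC} ≤ N := by
      rw [Subgroup.closure_le]
      rintro u (rfl | rfl | rfl)
      exacts [hA, hab.1 hA, hbc.1 (hab.1 hA)]
    have h8 := eight_dvd_card.trans (Subgroup.card_dvd_of_le hle)
    rw [h] at hmul
    have : 8 * 2 ∣ 175560 := hmul ▸ Nat.mul_dvd_mul_right h8 2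
    norm_num at this
  · left
    have d19 : 19 ∣ N.index :=
      ((Nat.Prime.dvd_mul (by norm_num : Nat.Prime 19)).1
        (show 19 ∣ Nat.card N * N.index by rw [hmul]; norm_num)).resolve_left c19
    have c11 : ¬ 11 ∣ Nat.card N := fun h => by
      have := d19.trans (h11 h)
      norm_num at this
    have c7 : ¬ 7 ∣ Nat.card N := fun h => by
      have := d19.trans (h7 h)
      norm_num at this
    have m19 := card_modEq_one (p := 19) (by simp) jNineteen orderOf_jNineteen N c19
    have m11 := card_modEq_one (p := 11) (by simp) jEleven orderOf_jEleven N c11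
    have m7 := card_modEq_one (p := 7) (by simp) jSeven orderOf_jSeven N c7
    have m := (Nat.modEq_and_modEq_iff_modEq_mul (by norm_num : Nat.Coprime 19 11)).1 ⟨m19, m11⟩
    have m' := (Nat.modEq_and_modEq_iff_modEq_mul (by norm_num : Nat.Coprime (19 * 11) 7)).1 ⟨m, m7⟩
    have hd : Nat.card N ∣ 120 * (19 * 11 * 7) := by
      rw [show 120 * (19 * 11 * 7) = 175560 by norm_num, ← hmul]
      exact dvd_mul_right _ _
    have hcop : Nat.Coprime (Nat.card N) (19 * 11 * 7) :=
      (((Nat.Prime.coprime_iff_not_dvd (by norm_num)).2 c19).mul_left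
        ((Nat.Prime.coprime_iff_not_dvd (by norm_num)).2 c11)).mul_left
        ((Nat.Prime.coprime_iff_not_dvd (by norm_num)).2 c7) |>.symm
    have h120 := Nat.le_of_dvd (by norm_num) (hcop.dvd_of_dvd_mul_right hd)
    have he : Nat.card N = 1 := by
      rw [Nat.ModEq, Nat.mod_eq_of_lt (by omega)] at m'
      exact m'
    exact Subgroup.card_eq_one.1 he

end Cfsg.Agent.JankoOne
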