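import Cfsg.Agent.Lib.JankoOne.Check

/-!
The check of the coset records 1320 to 1539 of J1.
-/

set_option autoImplicit false

namespace Cfsg.Agent.JankoOne

theorem checkBlock6 : ((List.range 220).all fun i => checkPt (1320 + i)) = true := by
  decide +kernel

end Cfsg.Agent.JankoOne
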