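import Cfsg.Agent.Lib.JankoOne.Check0
import Cfsg.Agent.Lib.JankoOne.Check1
import Cfsg.Agent.Lib.JankoOne.Check2
import Cfsg.Agent.Lib.JankoOne.Check3
import Cfsg.Agent.Lib.JankoOne.Check4
import Cfsg.Agent.Lib.JankoOne.Check5
import Cfsg.Agent.Lib.JankoOne.Check6

/-!
The order of J1 from the coset certificate.
Main results: `checkPt_all`, `elt`, `elt_mem`, `exists_elt`, `elt_inj`, `natCard_j1`.
-/

set_option autoImplicit false

namespace Cfsg.Agent.JankoOne

open Matrix

theorem checkPt_all {i : ℕ} (hi : i < 1540) : checkPt i = true := by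
  have key : ∀ n, ((List.range 220).all fun k => checkPt (220 * n + k)) = true →
      i / 220 = n → checkPt i = true := by
    intro n h e
    have := List.all_eq_true.1 h (i % 220) (List.mem_range.2 (Nat.mod_lt _ (by norm_num)))
    rwa [← e, Nat.div_add_mod] at this
  have : i / 220 < 7 := by omega
  rcases (by omega : i / 220 = 0 ∨ i / 220 = 1 ∨ i / 220 = 2 ∨ i / 220 = 3 ∨ i / 220 = 4 ∨
    i / 220 = 5 ∨ i / 220 = 6) with h | h | h | h | h | h | h
  exacts [key 0 checkBlock0 h, key 1 checkBlock1 h, key 2 checkBlock2 h, key 3 checkBlock3 h,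
    key 4 checkBlock4 h, key 5 checkBlock5 h, key 6 checkBlock6 h]

structure PtFacts (i : ℕ) : Prop where
  ok : okC (rep i) = true
  lead : lead (uVec i) = true
  col : colIs (mulC (rep i) vC) (scal i) (uVec i) = true
  scal_pos : 1 ≤ scal i
  scal_le : scal i ≤ 10
  root : i = rootIdx → rep i = idC
  tree : i ≠ rootIdx → parent i < 1540 ∧ depth (parent i) < depth i ∧ pgen i < 2 ∧
    dest (parent i) (pgen i) = i ∧ edge (parent i) (pgen i) = 0
  edges : ∀ g < 2, dest i g < 1540 ∧ edge i g < 114 ∧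
    mulC (genC g) (rep i) = mulC (rep (dest i g)) (stab (edge i g))
  mono : i + 1 < 1540 → uVec i < uVec (i + 1)

theorem ptFacts {i : ℕ} (hi : i < 1540) : PtFacts i := by
  have h := checkPt_all hi
  simp only [checkPt, Bool.and_eq_true, Bool.or_eq_true, List.all_eq_true, decide_eq_true_eq,
    beq_iff_eq] at h
  obtain ⟨⟨⟨⟨⟨⟨h1, h2⟩, h3⟩, h4, h5⟩, h6⟩, h7⟩, h8⟩ := h
  refine ⟨h1, h2, h3, h4, h5, fun e => ?_, fun e => ?_, fun g hg => ?_,
    fun e => h8.resolve_left (by omega)⟩
  · rwa [if_pos e, beq_iff_eq] at h6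
  · rw [if_neg e] at h6
    simp only [Bool.and_eq_true, decide_eq_true_eq, beq_iff_eq] at h6
    exact ⟨h6.1.1.1.1, h6.1.1.1.2, h6.1.1.2, h6.1.2, h6.2⟩
  · obtain ⟨⟨h9, h10⟩, h11⟩ := h7 g (by interval_cases g <;> simp)
    exact ⟨h9, h10, h11⟩

/-- The products in the stabiliser needed for the certificate, and its action on the fixed line. -/
def stabCheck : Bool :=
  stab 0 == idC &&
    ((List.range 19).all fun i => (List.range 6).all fun k =>
      okC (stab (6 * i + k)) &&
        mulC (stab 6) (stab (6 * i + k)) == stab (6 * ((i + 1) % 19) + k) &&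
        mulC (stab 1) (stab (6 * i + k)) == stab (6 * (twist * i % 19) + (k + 1) % 6) &&
        (List.range 10).any fun c => colIs (mulC (stab (6 * i + k)) vC) (c + 1) baseVec) &&
    ((List.range 114).all fun k => (List.range 114).all fun l =>
      (k == l) || !(stab k == stab l))

theorem stabCheck_ok : stabCheck = true := by decide +kernel

theorem stab_facts {i k : ℕ} (hi : i < 19) (hk : k < 6) :
    okC (stab (6 * i + k)) = true ∧
      mulC (stab 6) (stab (6 * i + k)) = stab (6 * ((i + 1) % 19) + k) ∧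
      mulC (stab 1) (stab (6 * i + k)) = stab (6 * (twist * i % 19) + (k + 1) % 6) ∧
      ∃ c, 1 ≤ c ∧ c ≤ 10 ∧ colIs (mulC (stab (6 * i + k)) vC) c baseVec = true := by
  have h := stabCheck_ok
  simp only [stabCheck, Bool.and_eq_true, List.all_eq_true, List.mem_range, List.any_eq_true,
    beq_iff_eq] at h
  obtain ⟨⟨⟨h1, h2⟩, h3⟩, c, hc, h4⟩ := h.1.2 i hi k hk
  exact ⟨h1, h2, h3, c + 1, by omega, by omega, h4⟩

theorem stab_ok {k : ℕ} (hk : k < 114) : okC (stab k) = true := by
  have h := (stab_facts (i := k / 6) (k := k % 6) (by omega) (Nat.mod_lt _ (by norm_num))).1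
  rwa [Nat.div_add_mod] at h

theorem stab_inj {k l : ℕ} (hk : k < 114) (hl : l < 114) (h : stab k = stab l) : k = l := by
  have hc := stabCheck_ok
  simp only [stabCheck, Bool.and_eq_true, List.all_eq_true, List.mem_range, Bool.or_eq_true,
    Bool.not_eq_true', beq_iff_eq, beq_eq_false_iff_ne] at hc
  exact (hc.2 k hk l hl).resolve_right fun h' => h' h

theorem stab_zero : gl (stab 0) = 1 := by
  have h := stabCheck_ok
  simp only [stabCheck, Bool.and_eq_true, beq_iff_eq] at h
  rw [h.1.1, gl_idC]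

/-- The element of order 19 of the line stabiliser. -/
def sS : GL (Fin 7) (ZMod 11) := gl (stab 6)

/-- The element of order 6 of the line stabiliser. -/
def sT : GL (Fin 7) (ZMod 11) := gl (stab 1)

theorem sS_mul {i k : ℕ} (hi : i < 19) (hk : k < 6) :
    sS * gl (stab (6 * i + k)) = gl (stab (6 * ((i + 1) % 19) + k)) :=
  gl_mul (stab_ok (by norm_num)) (stab_facts hi hk).1 (stab_ok (by omega)) (stab_facts hi hk).2.1

theorem sT_mul {i k : ℕ} (hi : i < 19) (hk : k < 6) :
    sT * gl (stab (6 * i + k)) = gl (stab (6 * (twist * i % 19) + (k + 1) % 6)) :=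
  gl_mul (stab_ok (by norm_num)) (stab_facts hi hk).1 (stab_ok (by omega)) (stab_facts hi hk).2.2.1

theorem stab_mem : ∀ k < 114, gl (stab k) ∈ Subgroup.closure {sS, sT} := by
  have hS : sS ∈ Subgroup.closure {sS, sT} := Subgroup.subset_closure (Set.mem_insert _ _)
  have hT : sT ∈ Subgroup.closure {sS, sT} :=
    Subgroup.subset_closure (Set.mem_insert_of_mem _ (Set.mem_singleton _))
  have row : ∀ k < 6, gl (stab k) ∈ Subgroup.closure {sS, sT} := by
    intro k
    induction k with
    | zero => intro _; rw [stab_zero]; exact one_mem _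
    | succ k ih =>
      intro hk
      have h := sT_mul (i := 0) (k := k) (by norm_num) (by omega)
      simp only [Nat.mul_zero, Nat.zero_mod, Nat.zero_add, Nat.mod_eq_of_lt hk] at h
      rw [← h]
      exact mul_mem hT (ih (by omega))
  have all : ∀ i < 19, ∀ k < 6, gl (stab (6 * i + k)) ∈ Subgroup.closure {sS, sT} := by
    intro i
    induction i with
    | zero => intro _ k hk; simpa using row k hk
    | succ i ih =>
      intro hi k hk
      have h := sS_mul (i := i) (k := k) (by omega) hk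
      rw [Nat.mod_eq_of_lt hi] at h
      rw [← h]
      exact mul_mem hS (ih (by omega) k hk)
  intro k hk
  have h := all (k / 6) (by omega) (k % 6) (Nat.mod_lt _ (by norm_num))
  rwa [Nat.div_add_mod] at h

theorem exists_stab {h : GL (Fin 7) (ZMod 11)} (hh : h ∈ Subgroup.closure {sS, sT}) :
    ∃ k < 114, h = gl (stab k) := by
  have h1 : h ∈ Submonoid.closure ({sS, sT} : Set (GL (Fin 7) (ZMod 11))) := by
    rw [← Subgroup.closure_toSubmonoid_of_finite]; exact hh
  induction h1 using Submonoid.closure_induction_left with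
  | one => exact ⟨0, by norm_num, stab_zero.symm⟩
  | mul_left x hx y hy ih =>
    obtain ⟨k, hk, rfl⟩ := ih ((Subgroup.le_closure_toSubmonoid _) hy)
    have hi : k / 6 < 19 := by omega
    have hj : k % 6 < 6 := Nat.mod_lt _ (by norm_num)
    rcases hx with rfl | rfl
    · refine ⟨_, ?_, by conv_lhs => rw [← Nat.div_add_mod k 6, sS_mul hi hj]⟩
      omega
    · refine ⟨_, ?_, by conv_lhs => rw [← Nat.div_add_mod k 6, sT_mul hi hj]⟩
      omega

theorem toM_xC : toM xC = Cfsg.jankoMatrixX := by decide +kernel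

theorem toM_yC : toM yC = Cfsg.jankoMatrixY := by decide +kernel

theorem gl_xC : gl xC = Cfsg.Spor.jankoX := Units.ext ((val_gl (by decide +kernel)).trans toM_xC)

theorem gl_yC : gl yC = Cfsg.Spor.jankoY := Units.ext ((val_gl (by decide +kernel)).trans toM_yC)

theorem genC_ok {g : ℕ} (hg : g < 2) : okC (genC g) = true := by
  interval_cases g <;> decide +kernel

theorem genC_mem {g : ℕ} (hg : g < 2) : gl (genC g) ∈ Cfsg.Spor.J1 := by
  interval_cases g
  · show gl xC ∈ _
    rw [gl_xC]; exact Subgroup.subset_closure (Set.mem_insert _ _)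
  · show gl yC ∈ _
    rw [gl_yC]; exact Subgroup.subset_closure (Set.mem_insert_of_mem _ (Set.mem_singleton _))

theorem gen_rep {i g : ℕ} (hi : i < 1540) (hg : g < 2) :
    gl (genC g) * gl (rep i) = gl (rep (dest i g)) * gl (stab (edge i g)) := by
  obtain ⟨h1, h2, h3⟩ := (ptFacts hi).edges g hg
  exact gl_mul_eq (genC_ok hg) (ptFacts hi).ok (ptFacts h1).ok (stab_ok h2) h3

theorem rep_root : gl (rep rootIdx) = 1 := by
  rw [(ptFacts (show rootIdx < 1540 by decide)).root rfl, gl_idC]

theorem rep_mem : ∀ i < 1540, gl (rep i) ∈ Cfsg.Spor.J1 := by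
  suffices ∀ n i, depth i = n → i < 1540 → gl (rep i) ∈ Cfsg.Spor.J1 from fun i hi => this _ i rfl hi
  intro n
  induction n using Nat.strong_induction_on with
  | _ n ih =>
    intro i hn hi
    by_cases hr : i = rootIdx
    · rw [hr, rep_root]; exact one_mem _
    obtain ⟨hp, hd, hg, hdest, he⟩ := (ptFacts hi).tree hr
    have h := gen_rep hp hg
    rw [hdest, he, stab_zero, mul_one] at h
    rw [← h]
    exact mul_mem (genC_mem hg) (ih _ (hn ▸ hd) _ rfl hp)

theorem edge_mem {i g : ℕ} (hi : i < 1540) (hg : g < 2) : gl (stab (edge i g)) ∈ Cfsg.Spor.J1 := by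
  rw [← inv_mul_cancel_left (gl (rep (dest i g))) (gl (stab (edge i g))), ← gen_rep hi hg]
  exact mul_mem (inv_mem (rep_mem _ ((ptFacts hi).edges g hg).1)) (mul_mem (genC_mem hg) (rep_mem i hi))

theorem closure_le_j1 : Subgroup.closure {sS, sT} ≤ Cfsg.Spor.J1 := by
  rw [Subgroup.closure_le]
  rintro x (rfl | rfl)
  · have h : edge edgeS.1 edgeS.2 = 6 := by decide +kernel
    show gl (stab 6) ∈ Cfsg.Spor.J1
    exact h ▸ edge_mem (by decide) (by decide)
  · have h : edge edgeT.1 edgeT.2 = 1 := by decide +kernel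
    show gl (stab 1) ∈ Cfsg.Spor.J1
    exact h ▸ edge_mem (by decide) (by decide)

/-- The element with given coset and stabiliser position. -/
def elt (i k : ℕ) : GL (Fin 7) (ZMod 11) := gl (rep i) * gl (stab k)

theorem elt_mem {i k : ℕ} (hi : i < 1540) (hk : k < 114) : elt i k ∈ Cfsg.Spor.J1 :=
  mul_mem (rep_mem i hi) (closure_le_j1 (stab_mem k hk))

theorem exists_elt {g : GL (Fin 7) (ZMod 11)} (hg : g ∈ Cfsg.Spor.J1) :
    ∃ i < 1540, ∃ k < 114, g = elt i k := by
  have h1 : g ∈ Submonoid.closure ({Cfsg.Spor.jankoX, Cfsg.Spor.jankoY} : Set (GL (Fin 7) (ZMod 11))) := by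
    rw [← Subgroup.closure_toSubmonoid_of_finite]; exact hg
  induction h1 using Submonoid.closure_induction_left with
  | one => exact ⟨rootIdx, by decide, 0, by norm_num, by rw [elt, rep_root, stab_zero, one_mul]⟩
  | mul_left x hx y hy ih =>
    obtain ⟨i, hi, k, hk, rfl⟩ := ih ((Subgroup.le_closure_toSubmonoid _) hy)
    obtain ⟨t, ht, rfl⟩ : ∃ t < 2, x = gl (genC t) := by
      rcases hx with rfl | rfl
      · exact ⟨0, by norm_num, gl_xC.symm⟩
      · exact ⟨1, by norm_num, gl_yC.symm⟩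
    obtain ⟨h1, h2, -⟩ := (ptFacts hi).edges t ht
    obtain ⟨l, hl, e⟩ := exists_stab (mul_mem (stab_mem _ h2) (stab_mem k hk))
    refine ⟨_, h1, l, hl, ?_⟩
    rw [elt, elt, ← mul_assoc, gen_rep hi ht, mul_assoc, e]

theorem toM_vC (i : Fin 7) : toM vC i 0 = (dig baseVec i : ZMod 11) := by
  revert i; decide +kernel

theorem natCast_ne_zero {c : ℕ} (h1 : 1 ≤ c) (h2 : c ≤ 10) : (c : ZMod 11) ≠ 0 := by
  interval_cases c <;> decide

theorem elt_col {i k : ℕ} (hi : i < 1540) (hk : k < 114) :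
    ∃ c : ZMod 11, c ≠ 0 ∧
      ∀ j : Fin 7, ((elt i k : Matrix (Fin 7) (Fin 7) (ZMod 11)) * toM vC) j 0 =
        c * (dig (uVec i) j : ZMod 11) := by
  obtain ⟨-, -, -, c, hc1, hc2, hcol⟩ :=
    stab_facts (i := k / 6) (k := k % 6) (by omega) (Nat.mod_lt _ (by norm_num))
  rw [Nat.div_add_mod] at hcol
  have hv : canon vC = true := by decide +kernel
  have P := ptFacts hi
  have := Fact.mk (show Nat.Prime 11 by norm_num)
  refine ⟨c * scal i, mul_ne_zero (natCast_ne_zero hc1 hc2) (natCast_ne_zero P.scal_pos P.scal_le),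
    fun j => ?_⟩
  have h2 : ∀ l : Fin 7, (toM (stab k) * toM vC) l 0 = (c : ZMod 11) * (dig baseVec l : ZMod 11) :=
    fun l => by rw [← toM_mulC (canon_of_ok (stab_ok hk)) hv]; exact col_eq hcol l
  rw [elt, Units.val_mul, val_gl P.ok, val_gl (stab_ok hk), Matrix.mul_assoc, Matrix.mul_apply]
  simp only [h2]
  have h3 : (toM (rep i) * toM vC) j 0 = (scal i : ZMod 11) * (dig (uVec i) j : ZMod 11) := by
    rw [← toM_mulC (canon_of_ok P.ok) hv]; exact col_eq P.col j
  rw [Matrix.mul_apply] at h3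
  simp only [toM_vC] at h3
  rw [mul_assoc, ← h3, Finset.mul_sum]
  exact Finset.sum_congr rfl fun l _ => by ring

theorem uVec_strictMono {i j : ℕ} (hij : i < j) (hj : j < 1540) : uVec i < uVec j := by
  induction hij with
  | refl => exact (ptFacts (by omega)).mono hj
  | step h ih => exact (ih (by omega)).trans ((ptFacts (by omega)).mono hj)

theorem elt_inj {i j k l : ℕ} (hi : i < 1540) (hj : j < 1540) (hk : k < 114) (hl : l < 114)
    (h : elt i k = elt j l) : i = j ∧ k = l := by
  have := Fact.mk (show Nat.Prime 11 by norm_num)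
  obtain ⟨c, hc, hci⟩ := elt_col hi hk
  obtain ⟨d, hd, hdj⟩ := elt_col hj hl
  have he : uVec i = uVec j :=
    line_eq_of_lead (ptFacts hi).lead (ptFacts hj).lead (mul_ne_zero (inv_ne_zero hc) hd) fun t => by
      rw [mul_assoc, ← hdj t, ← h, hci t, inv_mul_cancel_left₀ hc]
  obtain rfl : i = j := by
    rcases Nat.lt_trichotomy i j with h' | h' | h'
    · exact absurd he (uVec_strictMono h' hj).ne
    · exact h'
    · exact absurd he (uVec_strictMono h' hi).ne'
  refine ⟨rfl, stab_inj hk hl (gl_inj (stab_ok hk) (stab_ok hl) ?_)⟩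
  exact mul_left_cancel h

/-- The order of J1. -/
theorem natCard_j1 : Nat.card ↥Cfsg.Spor.J1 = 175560 := by
  let f : Fin 1540 × Fin 114 → ↥Cfsg.Spor.J1 := fun u =>
    ⟨elt u.1 u.2, elt_mem u.1.isLt u.2.isLt⟩
  have hf : Function.Bijective f := by
    refine ⟨fun u v e => ?_, fun x => ?_⟩
    · obtain ⟨h1, h2⟩ := elt_inj u.1.isLt v.1.isLt u.2.isLt v.2.isLt (congrArg Subtype.val e)
      exact Prod.ext (Fin.ext h1) (Fin.ext h2)
    · obtain ⟨i, hi, k, hk, e⟩ := exists_elt x.2
      exact ⟨(⟨i, hi⟩, ⟨k, hk⟩), Subtype.ext e.symm⟩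
  rw [← Nat.card_eq_of_bijective f hf, Nat.card_prod, Nat.card_fin, Nat.card_fin]

end Cfsg.Agent.JankoOne
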