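import Cfsg.Agent.Lib.JankoOne.Simple

/-!
Every automorphism of J1 is inner.
Method: conjugate so that the image of `oA` (order 19) is `oA ^ k` with `k` in three classes and the image
of `oB` (order 6, normalising `⟨oA⟩`) is `oB`; then the image of `oS`, which centralises `oB ^ 2`, is one of
thirty elements and two relators leave only `oS`.
Main results: `mem_centThree`, `closure_oA_oB_oS`, `exists_conj_eq`, `natCard_out_j1`.
-/

set_option autoImplicit false

namespace Cfsg.Agent.JankoOne

/-- The position of an element of order 19. -/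
def posA : ℕ × ℕ := (760, 6)
/-- The position of an element of order 6 normalising the group of `posA`. -/
def posB : ℕ × ℕ := (760, 1)
/-- The position of the third generator. -/
def posS : ℕ × ℕ := (703, 11)

/-- The positions of the centralizer of the square of the element at `posB`. -/
def centThree : List (ℕ × ℕ) := [(703, 6), (703, 7), (703, 8), (703, 9), (703, 10), (703, 11), (760, 0), (760, 1), (760, 2), (760, 3), (760, 4), (760, 5), (899, 18), (899, 19), (899, 20), (899, 21), (899, 22), (899, 23), (917, 6), (917, 7), (917, 8), (917, 9), (917, 10), (917, 11), (1044, 30), (1044, 31), (1044, 32), (1044, 33), (1044, 34), (1044, 35)]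

/-- A word for the first matrix generator in the three positions. -/
def wordX : List ℕ := [2, 0, 0, 0, 0, 2, 2, 0, 1, 2, 0, 2]
/-- A word for the second matrix generator in the three positions. -/
def wordY : List ℕ := [0, 2, 1, 0, 2, 2, 0, 0, 2, 2, 1, 0]

/-- Two relators of the three positions. -/
def relators : List (List ℕ) := [
  [0, 2, 2, 1, 0, 2, 2, 1, 0, 2, 2, 1, 0, 2, 2, 1, 0, 2, 2, 1, 0, 2, 2, 1, 0, 2, 2, 1],
  [0, 0, 2, 2, 0, 0, 2, 2, 0, 0, 2, 2]]

/-- An element of order 19. -/
noncomputable def oA : ↥Cfsg.Spor.J1 := jel posA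
/-- An element of order 6. -/
noncomputable def oB : ↥Cfsg.Spor.J1 := jel posB
/-- The third generator. -/
noncomputable def oS : ↥Cfsg.Spor.J1 := jel posS

/-- The positions of a word when the first generator is replaced by its `k`-th power and the third by
`c`. -/
def subst (k : ℕ) (c : ℕ × ℕ) : List ℕ → List (ℕ × ℕ)
  | [] => []
  | t :: w => (if t == 0 then List.replicate k posA else if t == 1 then [posB] else [c]) ++ subst k c w

/-- Every element commuting with `stab 2` is listed in `centThree`. -/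
def scanOk : Bool :=
  (List.range 1540).all fun i =>
    let w := mulC (trC (rep i)) (mulC (stab 2) (rep i))
    !((List.range 114).any fun l => stab l == w) ||
      (List.range 114).all fun k =>
        !(mulC (stab 2) (mulC (rep i) (stab k)) == mulC (mulC (rep i) (stab k)) (stab 2)) ||
          centThree.contains (i, k)

theorem scanOk_eq : scanOk = true := by decide +kernel

theorem canon_mulC (A B : List ℕ) (hA : canon A = true) (hB : canon B = true) :
    canon (mulC A B) = true := by
  have hlA := length_of_canon hA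
  have hlB := length_of_canon hB
  match B, hlB with
  | [b0, b1, b2, b3, b4, b5, b6], _ =>
    simp only [canon, mulC, List.length_map, hlA, List.all_map, List.all_eq_true, Bool.and_eq_true,
      Function.comp, beq_iff_eq, true_and]
    intro r _
    have h : ∀ s : ℕ, redRow (redRow s) = redRow s := fun s => by
      conv_lhs => unfold redRow
      rw [show redRow s = pack7 (dig s 0 % 11) (dig s 1 % 11) (dig s 2 % 11) (dig s 3 % 11) (dig s 4 % 11)
        (dig s 5 % 11) (dig s 6 % 11) from rfl]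
      have := dig_redRow s
      rw [redRow] at this
      rw [show dig _ 0 = _ from this 0, show dig _ 1 = _ from this 1, show dig _ 2 = _ from this 2,
        show dig _ 3 = _ from this 3, show dig _ 4 = _ from this 4, show dig _ 5 = _ from this 5,
        show dig _ 6 = _ from this 6]
      simp only [Nat.mod_mod]
      rfl
    exact h _

theorem coe_oB_sq : ((oB ^ 2 : ↥Cfsg.Spor.J1) : GL (Fin 7) (ZMod 11)) = gl (stab 2) := by
  have h := val_prod (w := [posB, posB]) (by decide +kernel)
  simp only [List.map_cons, List.map_nil, List.prod_cons, List.prod_nil, mul_one] at h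
  rw [sq, oB, h.2]
  exact congrArg gl (by decide +kernel)

theorem mem_centThree {g : ↥Cfsg.Spor.J1} (hg : Commute (oB ^ 2) g) : ∃ c ∈ centThree, g = jel c := by
  obtain ⟨i, hi, k, hk, e⟩ := exists_elt g.2
  have hg' : ((oB ^ 2 : ↥Cfsg.Spor.J1) : GL (Fin 7) (ZMod 11)) * (g : GL (Fin 7) (ZMod 11)) =
      (g : GL (Fin 7) (ZMod 11)) * ((oB ^ 2 : ↥Cfsg.Spor.J1) : GL (Fin 7) (ZMod 11)) :=
    congrArg Subtype.val hg.eq
  rw [coe_oB_sq, e, elt] at hg'
  have h2 : okC (stab 2) = true := stab_ok (by norm_num)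
  have hR : okC (rep i) = true := (ptFacts hi).ok
  have hS : okC (stab k) = true := stab_ok hk
  have hcR := canon_of_ok hR
  have hcS := canon_of_ok hS
  have hc2 := canon_of_ok h2
  have hmat : toM (stab 2) * (toM (rep i) * toM (stab k)) = toM (rep i) * toM (stab k) * toM (stab 2) := by
    rw [← val_gl h2, ← val_gl hR, ← val_gl hS, ← Units.val_mul, ← Units.val_mul, ← Units.val_mul, hg']
  have hct : canon (trC (rep i)) = true := by
    simp only [okC, Bool.and_eq_true] at hR
    exact hR.1.1.2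
  have hscan := List.all_eq_true.1 scanOk_eq i (List.mem_range.2 hi)
  simp only [Bool.or_eq_true, Bool.not_eq_true', List.all_eq_true, List.mem_range,
    List.any_eq_false, beq_iff_eq, beq_eq_false_iff_ne] at hscan
  have hin : ∃ l < 114, stab l = mulC (trC (rep i)) (mulC (stab 2) (rep i)) := by
    obtain ⟨l, hl, el'⟩ := exists_stab
      (mul_mem (mul_mem (stab_mem k hk) (stab_mem 2 (by norm_num))) (inv_mem (stab_mem k hk)))
    refine ⟨l, hl, ?_⟩
    have hl' : toM (stab l) = toM (trC (rep i)) * (toM (stab 2) * toM (rep i)) := by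
      rw [← val_gl (stab_ok hl), ← el', Units.val_mul, Units.val_mul]
      rw [val_gl h2, val_gl hS]
      have hinv : (((gl (stab k))⁻¹ : GL (Fin 7) (ZMod 11)) : Matrix (Fin 7) (Fin 7) (ZMod 11)) =
          toM (trC (stab k)) := by rw [gl, dif_pos hS]; rfl
      rw [hinv]
      calc toM (stab k) * toM (stab 2) * toM (trC (stab k))
          = toM (trC (rep i)) * (toM (rep i) * toM (stab k) * toM (stab 2)) * toM (trC (stab k)) := by
            rw [← Matrix.mul_assoc (toM (trC (rep i))), ← Matrix.mul_assoc (toM (trC (rep i))),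
              (mul_trC hR).2, Matrix.one_mul]
        _ = toM (trC (rep i)) * (toM (stab 2) * toM (rep i)) * (toM (stab k) * toM (trC (stab k))) := by
            rw [← hmat]; simp only [Matrix.mul_assoc]
        _ = _ := by rw [(mul_trC hS).1, Matrix.mul_one]
    have hm : ∀ A B, canon A = true → canon B = true → canon (mulC A B) = true := canon_mulC
    refine toM_inj (canon_of_ok (stab_ok hl)) (hm _ _ hct (hm _ _ hc2 hcR)) ?_
    rw [hl', toM_mulC hct (hm _ _ hc2 hcR), toM_mulC hc2 hcR]
  rcases hscan with h | h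
  · obtain ⟨l, hl, el'⟩ := hin
    exact absurd el' (h l hl)
  rcases h k hk with h' | h'
  · refine absurd (toM_inj (canon_mulC _ _ hc2 (canon_mulC _ _ hcR hcS))
      (canon_mulC _ _ (canon_mulC _ _ hcR hcS) hc2) ?_) h'
    rw [toM_mulC hc2 (canon_mulC _ _ hcR hcS), toM_mulC (canon_mulC _ _ hcR hcS) hc2,
      toM_mulC hcR hcS, hmat]
  · rw [List.contains_iff_mem] at h'
    exact ⟨(i, k), h', Subtype.ext (by rw [e, jel, dif_pos ⟨hi, hk⟩])⟩

theorem oA_mul_oB : oA * oB = oB * oA ^ 8 := by
  have h := jprod_eq (w := [posA, posB]) (v := posB :: List.replicate 8 posA) (by decide +kernel)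
  simp only [List.map_cons, List.map_nil, List.map_replicate, List.prod_cons, List.prod_nil,
    List.prod_replicate, mul_one] at h
  exact h

theorem oA_pow_mul_oB (t : ℕ) : oA ^ t * oB = oB * oA ^ (8 * t) := by
  induction t with
  | zero => simp
  | succ t ih => rw [pow_succ', mul_assoc, ih, ← mul_assoc, oA_mul_oB, mul_assoc, ← pow_add, Nat.mul_succ,
      Nat.add_comm]

theorem oB_conj_oA (k : ℕ) : oB * oA ^ k * oB⁻¹ = oA ^ (12 * k) := by
  have h := jprod_eq (w := [posB, posA]) (v := List.replicate 12 posA ++ [posB]) (by decide +kernel)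
  simp only [List.map_cons, List.map_nil, List.map_append, List.map_replicate, List.prod_cons,
    List.prod_append, List.prod_replicate, List.prod_nil, mul_one] at h
  rw [← conj_pow, show oB * oA = oA ^ 12 * oB from h, mul_inv_cancel_right, pow_mul]

theorem orderOf_oA : orderOf oA = 19 := orderOf_jel (by norm_num) _ (by decide +kernel)

theorem map_subst (β : MulAut ↥Cfsg.Spor.J1) {k : ℕ} {c : ℕ × ℕ} (hA : β oA = oA ^ k) (hB : β oB = oB)
    (hS : β oS = jel c) : ∀ w : List ℕ,
    β ((subst 1 posS w).map jel).prod = ((subst k c w).map jel).prod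
  | [] => map_one β
  | t :: w => by
    simp only [subst, List.map_append, List.prod_append, map_mul, map_subst β hA hB hS w]
    congr 1
    rcases Nat.lt_trichotomy t 1 with h | h | h
    · obtain rfl : t = 0 := by omega
      simpa [List.prod_replicate, oA] using hA
    · subst h
      simpa [oB] using hB
    · simp only [show (t == 0) = false by simp; omega, show (t == 1) = false by simp; omega]
      simpa [oS] using hS

theorem subst_mem {H : Subgroup ↥Cfsg.Spor.J1} (hA : oA ∈ H) (hB : oB ∈ H) (hS : oS ∈ H) :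
    ∀ w : List ℕ, ((subst 1 posS w).map jel).prod ∈ H
  | [] => one_mem H
  | t :: w => by
    simp only [subst, List.map_append, List.prod_append]
    refine mul_mem ?_ (subst_mem hA hB hS w)
    split_ifs
    · simpa [oA] using hA
    · simpa [oB] using hB
    · simpa [oS] using hS

theorem closure_oA_oB_oS : Subgroup.closure {oA, oB, oS} = ⊤ := by
  have hx : ∀ w : List ℕ, ((((subst 1 posS w).map jel).prod : ↥Cfsg.Spor.J1) : GL (Fin 7) (ZMod 11)) ∈
      (Subgroup.closure {oA, oB, oS}).map Cfsg.Spor.J1.subtype := fun w =>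
    ⟨_, subst_mem (Subgroup.subset_closure (by simp)) (Subgroup.subset_closure (by simp))
      (Subgroup.subset_closure (by simp)) w, rfl⟩
  have key : ∀ x ∈ ({Cfsg.Spor.jankoX, Cfsg.Spor.jankoY} : Set (GL (Fin 7) (ZMod 11))),
      x ∈ (Subgroup.closure {oA, oB, oS}).map Cfsg.Spor.J1.subtype := by
    rintro x (rfl | rfl)
    · have h := hx wordX
      rwa [(val_prod (w := subst 1 posS wordX) (by decide +kernel)).2,
        show prodC (subst 1 posS wordX) = xC by decide +kernel, gl_xC] at h
    · have h := hx wordY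
      rwa [(val_prod (w := subst 1 posS wordY) (by decide +kernel)).2,
        show prodC (subst 1 posS wordY) = yC by decide +kernel, gl_yC] at h
  refine eq_top_iff.2 fun g _ => ?_
  have hg : (g : GL (Fin 7) (ZMod 11)) ∈ (Subgroup.closure {oA, oB, oS}).map Cfsg.Spor.J1.subtype :=
    (Subgroup.closure_le _).2 key g.2
  obtain ⟨g', hg', e⟩ := hg
  rwa [← Subtype.ext (show (g' : GL (Fin 7) (ZMod 11)) = g from e)]

/-- Every candidate but the identical one breaks a relator. -/
def candOk : Bool :=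
  [1, 2, 4].all fun k => centThree.all fun c =>
    (k == 1 && c == posS) || relators.any fun r => chkNe (subst k c r) []

theorem candOk_eq : candOk = true := by decide +kernel

theorem relators_eq_one : ∀ r ∈ relators, chkEq (subst 1 posS r) [] = true := by decide +kernel

theorem exists_pow_reduce : ∀ k : ℕ, k < 19 → k ≠ 0 →
    ∃ e : Fin 6, k * 12 ^ (e : ℕ) % 19 ∈ [1, 2, 4] := by decide +kernel

theorem exists_shift : ∀ j : Fin 19, ∃ t : Fin 19, (8 * (t : ℕ) + j) % 19 = t := by decide +kernel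

theorem commute_oB_oS : Commute (oB ^ 2) oS := by
  have h := jprod_eq (w := [posB, posB, posS]) (v := [posS, posB, posB]) (by decide +kernel)
  simp only [List.map_cons, List.map_nil, List.prod_cons, List.prod_nil, mul_one] at h
  rw [Commute, SemiconjBy, sq, mul_assoc]
  exact h

theorem oS_eq : oS = jel posS := rfl

attribute [local irreducible] jel oA oB oS

theorem exists_conj_eq (α : MulAut ↥Cfsg.Spor.J1) : ∃ g, MulAut.conj g = α := by
  have hpr : Nat.Prime 19 := by norm_num
  have := Fact.mk hpr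
  have hcard : Nat.card (Subgroup.zpowers oA) = 19 := by rw [Nat.card_zpowers, orderOf_oA]
  have hP : IsPGroup 19 (Subgroup.zpowers oA) := IsPGroup.of_card (n := 1) (by rw [hcard, pow_one])
  have hindex : ¬ 19 ∣ (Subgroup.zpowers oA).index := by
    have h := (Subgroup.zpowers oA).card_mul_index
    rw [hcard, natCard_j1] at h
    omega
  have hα : orderOf (α oA) = 19 := by rw [MulEquiv.orderOf_eq, orderOf_oA]
  obtain ⟨Q, hQ⟩ := (IsPGroup.of_card (n := 1) (p := 19)
    (show Nat.card (Subgroup.zpowers (α oA)) = 19 ^ 1 by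
      rw [Nat.card_zpowers, hα, pow_one])).exists_le_sylow
  obtain ⟨g, hg⟩ := MulAction.exists_smul_eq ↥Cfsg.Spor.J1 Q (hP.toSylow hindex)
  have hmem : g * α oA * g⁻¹ ∈ Subgroup.zpowers oA := by
    have : g * α oA * g⁻¹ ∈ ((g • Q : Sylow 19 ↥Cfsg.Spor.J1) : Subgroup ↥Cfsg.Spor.J1) :=
      Subgroup.smul_mem_pointwise_smul (α oA) (MulAut.conj g) _ (hQ (Subgroup.mem_zpowers _))
    rwa [hg] at this
  rw [← mem_powers_iff_mem_zpowers, Submonoid.mem_powers_iff] at hmem
  obtain ⟨k₀, hk₀⟩ := hmem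
  rw [← pow_mod_orderOf, orderOf_oA] at hk₀
  have hk0 : k₀ % 19 ≠ 0 := fun h => by
    rw [h, pow_zero, eq_comm, conj_eq_one_iff] at hk₀
    rw [hk₀, orderOf_one] at hα
    simp at hα
  obtain ⟨e, he⟩ := exists_pow_reduce _ (Nat.mod_lt _ (by norm_num)) hk0
  generalize hk : k₀ % 19 * 12 ^ (e : ℕ) % 19 = k at he
  have hNi : ∀ j k : ℕ, oB ^ j * oA ^ k * (oB ^ j)⁻¹ = oA ^ (k * 12 ^ j) := by
    intro j k
    induction j generalizing k with
    | zero => simp
    | succ j ih =>
      rw [pow_succ, show oB ^ j * oB * oA ^ k * (oB ^ j * oB)⁻¹ =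
        oB ^ j * (oB * oA ^ k * oB⁻¹) * (oB ^ j)⁻¹ by group, oB_conj_oA, ih]
      ring_nf
  set h₁ := oB ^ (e : ℕ) * g with hh₁
  have hA1 : h₁ * α oA * h₁⁻¹ = oA ^ k := by
    rw [hh₁, show oB ^ (e : ℕ) * g * α oA * (oB ^ (e : ℕ) * g)⁻¹ =
      oB ^ (e : ℕ) * (g * α oA * g⁻¹) * (oB ^ (e : ℕ))⁻¹ by group, ← hk₀, hNi, ← hk]
    conv_lhs => rw [← pow_mod_orderOf, orderOf_oA]
  set y := h₁ * α oB * h₁⁻¹ with hy
  have hyA : y * oA ^ k * y⁻¹ = oB * oA ^ k * oB⁻¹ := by
    rw [oB_conj_oA, mul_comm 12 k, pow_mul, hy, ← hA1,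
      show h₁ * α oB * h₁⁻¹ * (h₁ * α oA * h₁⁻¹) * (h₁ * α oB * h₁⁻¹)⁻¹ =
        h₁ * (α oB * α oA * (α oB)⁻¹) * h₁⁻¹ by group, ← map_inv α oB, ← map_mul, ← map_mul,
      show oB * oA * oB⁻¹ = oA ^ 12 by simpa using oB_conj_oA 1, map_pow, conj_pow]
  have hk19 : k ≠ 0 ∧ k < 19 := by
    fin_cases he <;> norm_num
  have hord : orderOf (oA ^ k) = 19 := by
    rw [Nat.Coprime.orderOf_pow, orderOf_oA]
    rw [orderOf_oA]
    exact Nat.coprime_of_lt_prime hk19.1 hk19.2 hpr
  have hc : oB⁻¹ * y ∈ Subgroup.centralizer ({oA ^ k} : Set ↥Cfsg.Spor.J1) := by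
    rw [Subgroup.mem_centralizer_iff]
    intro z hz
    rw [Set.mem_singleton_iff.1 hz, eq_comm, ← mul_inv_eq_iff_eq_mul,
      show oB⁻¹ * y * oA ^ k * (oB⁻¹ * y)⁻¹ = oB⁻¹ * (y * oA ^ k * y⁻¹) * oB by group, hyA]
    group
  have hcz : Subgroup.zpowers (oA ^ k) = Subgroup.centralizer ({oA ^ k} : Set ↥Cfsg.Spor.J1) := by
    refine Subgroup.eq_of_le_of_card_ge ?_ ?_
    · rw [Subgroup.zpowers_le, Subgroup.mem_centralizer_iff]
      intro z hz
      rw [Set.mem_singleton_iff.1 hz]
    · rw [card_centralizer_of_prime_order (by simp) _ hord, Nat.card_zpowers, hord]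
  rw [← hcz] at hc
  have hc' : oB⁻¹ * y ∈ Subgroup.zpowers oA :=
    (Subgroup.zpowers_le.2 (pow_mem (Subgroup.mem_zpowers oA) k)) hc
  rw [← mem_powers_iff_mem_zpowers, Submonoid.mem_powers_iff] at hc'
  obtain ⟨j, hj⟩ := hc'
  obtain ⟨t, ht⟩ := exists_shift ⟨j % 19, Nat.mod_lt _ (by norm_num)⟩
  set h := oA ^ (t : ℕ) * h₁ with hh
  obtain ⟨β, hβ⟩ : ∃ β : MulAut ↥Cfsg.Spor.J1, β = MulAut.conj h * α := ⟨_, rfl⟩
  have hβA : β oA = oA ^ k := by
    rw [hβ, MulAut.mul_apply, MulAut.conj_apply, hh,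
      show oA ^ (t : ℕ) * h₁ * α oA * (oA ^ (t : ℕ) * h₁)⁻¹ =
        oA ^ (t : ℕ) * (h₁ * α oA * h₁⁻¹) * (oA ^ (t : ℕ))⁻¹ by group, hA1,
      (Commute.pow_pow_self oA t k).eq, mul_inv_cancel_right]
  have hβB : β oB = oB := by
    rw [hβ, MulAut.mul_apply, MulAut.conj_apply, hh,
      show oA ^ (t : ℕ) * h₁ * α oB * (oA ^ (t : ℕ) * h₁)⁻¹ = oA ^ (t : ℕ) * y * (oA ^ (t : ℕ))⁻¹ by
        rw [hy]; group,
      show y = oB * oA ^ j by rw [hj, mul_inv_cancel_left], ← mul_assoc, oA_pow_mul_oB,
      mul_assoc oB, ← pow_add, mul_inv_eq_iff_eq_mul]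
    refine congrArg (oB * ·) ?_
    rw [← pow_mod_orderOf, orderOf_oA]
    conv_rhs => rw [← ht]
    congr 1
    simp only
    omega
  have hS0 := commute_oB_oS
  have hS1 := hS0.map β
  rw [map_pow, hβB] at hS1
  obtain ⟨c, hc, hβS⟩ := mem_centThree hS1
  have hcand := List.all_eq_true.1 (List.all_eq_true.1 candOk_eq k he) c hc
  simp only [Bool.or_eq_true, Bool.and_eq_true, beq_iff_eq, List.any_eq_true] at hcand
  rcases hcand with ⟨rfl, rfl⟩ | ⟨r, hr, hr'⟩
  · refine ⟨h⁻¹, ?_⟩
    have hβ1 : β = 1 := by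
      refine MulEquiv.toMonoidHom_injective (MonoidHom.eq_of_eqOn_dense closure_oA_oB_oS ?_)
      rintro x (rfl | rfl | rfl)
      · show β oA = oA
        rw [hβA, pow_one]
      · exact hβB
      · show β oS = oS
        rw [hβS, oS_eq]
    rw [map_inv, inv_eq_iff_mul_eq_one, ← hβ, hβ1]
  · refine absurd ?_ (jprod_ne hr')
    rw [← map_subst β hβA hβB hβS r, jprod_eq (relators_eq_one r hr)]
    simp

theorem natCard_out_j1 : Nat.card (Cfsg.Out ↥Cfsg.Spor.J1) = 1 := by
  have h : Cfsg.Inn ↥Cfsg.Spor.J1 = ⊤ := eq_top_iff.2 fun α _ => exists_conj_eq α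
  show Nat.card (MulAut ↥Cfsg.Spor.J1 ⧸ Cfsg.Inn ↥Cfsg.Spor.J1) = 1
  rw [← Subgroup.index_eq_card, h, Subgroup.index_top]

end Cfsg.Agent.JankoOne
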