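import Cfsg.Agent.Lib.JankoOne.Data

/-!
The check of one coset record of the order certificate for J1.
-/

set_option autoImplicit false

namespace Cfsg.Agent.JankoOne

/-- The code of the `i`-th representative. -/
def rep (i : ℕ) : List ℕ := (repsTable.getD (i / 44) []).getD (i % 44) []

/-- The `i`-th record. -/
def rcd (i : ℕ) : List ℕ := (metaTable.getD (i / 44) []).getD (i % 44) []

/-- The element of the stabiliser with the given position. -/
def stab (k : ℕ) : List ℕ := stabC.getD k []

/-- The packed line of the `i`-th coset. -/
def uVec (i : ℕ) : ℕ := (rcd i).getD 0 0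

/-- The scalar of the `i`-th coset. -/
def scal (i : ℕ) : ℕ := (rcd i).getD 1 0

/-- The parent of the `i`-th coset. -/
def parent (i : ℕ) : ℕ := (rcd i).getD 2 0

/-- The generator leading from the parent. -/
def pgen (i : ℕ) : ℕ := (rcd i).getD 3 0

/-- The depth in the tree. -/
def depth (i : ℕ) : ℕ := (rcd i).getD 4 0

/-- The coset reached by a generator. -/
def dest (i g : ℕ) : ℕ := (rcd i).getD (5 + 2 * g) 0

/-- The Schreier element of an edge. -/
def edge (i g : ℕ) : ℕ := (rcd i).getD (6 + 2 * g) 0

/-- The code of a generator. -/
def genC (g : ℕ) : List ℕ := if g == 0 then xC else yC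

/-- The matrix with the fixed vector as first column. -/
def vC : List ℕ := ofFun fun i j => if j == 0 then dig baseVec i else 0

/-- All conditions on the `i`-th record. -/
def checkPt (i : ℕ) : Bool :=
  okC (rep i) && lead (uVec i) && colIs (mulC (rep i) vC) (scal i) (uVec i) &&
    (1 ≤ scal i && scal i ≤ 10) &&
    (if i == rootIdx then rep i == idC else
      decide (parent i < 1540) && decide (depth (parent i) < depth i) && decide (pgen i < 2) &&
        dest (parent i) (pgen i) == i && edge (parent i) (pgen i) == 0) &&
    ([0, 1].all fun g => decide (dest i g < 1540) && decide (edge i g < 114) &&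
      mulC (genC g) (rep i) == mulC (rep (dest i g)) (stab (edge i g))) &&
    (decide (1540 ≤ i + 1) || decide (uVec i < uVec (i + 1)))

end Cfsg.Agent.JankoOne
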