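import Cfsg.Agent.EqLemmas
import Cfsg.Prelude.Def_Spor_J1

/-!
7 x 7 matrices over the integers modulo 11 coded by seven packed numbers (one per row, sixteen bits
per entry), for kernel computations in the Janko group J1.
Main results: `toM_mulC`, `toM_inj`, `gl`, `gl_mul`, `gl_inj`, `col_eq`, `line_eq_of_lead`.
-/

set_option autoImplicit false

namespace Cfsg.Agent.JankoOne

open Matrix

/-- The `k`-th entry of a packed row. -/
def dig (r k : ℕ) : ℕ := r / 65536 ^ k % 65536

/-- A packed row. -/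
def pack7 (a0 a1 a2 a3 a4 a5 a6 : ℕ) : ℕ :=
  a0 + 65536 * (a1 + 65536 * (a2 + 65536 * (a3 + 65536 * (a4 + 65536 * (a5 + 65536 * a6)))))

/-- The matrix with the given entries, packed. -/
def ofFun (f : ℕ → ℕ → ℕ) : List ℕ :=
  (List.range 7).map fun i => pack7 (f i 0) (f i 1) (f i 2) (f i 3) (f i 4) (f i 5) (f i 6)

/-- The combination of rows with the given coefficient row, before reduction. -/
def combine (r : ℕ) (b0 b1 b2 b3 b4 b5 b6 : ℕ) : ℕ :=
  dig r 0 * b0 + (dig r 1 * b1 + (dig r 2 * b2 + (dig r 3 * b3 +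
    (dig r 4 * b4 + (dig r 5 * b5 + dig r 6 * b6)))))

/-- Reduce each entry modulo 11. -/
def redRow (s : ℕ) : ℕ :=
  pack7 (dig s 0 % 11) (dig s 1 % 11) (dig s 2 % 11) (dig s 3 % 11) (dig s 4 % 11) (dig s 5 % 11)
    (dig s 6 % 11)

/-- Product of two coded matrices. -/
def mulC (A B : List ℕ) : List ℕ :=
  match B with
  | [b0, b1, b2, b3, b4, b5, b6] => A.map fun r => redRow (combine r b0 b1 b2 b3 b4 b5 b6)
  | _ => []

/-- The code consists of seven reduced rows. -/
def canon (A : List ℕ) : Bool :=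
  A.length == 7 && A.all fun r => redRow r == r

/-- The transposed code. -/
def trC (A : List ℕ) : List ℕ := ofFun fun i j => dig (A.getD j 0) i

/-- The code of the identity. -/
def idC : List ℕ := ofFun fun i j => if i == j then 1 else 0

/-- The matrix of a code. -/
def toM (A : List ℕ) : Matrix (Fin 7) (Fin 7) (ZMod 11) :=
  Matrix.of fun i j => (dig (A.getD i 0) j : ZMod 11)

theorem dig_pack7 {a0 a1 a2 a3 a4 a5 a6 : ℕ} (h0 : a0 < 65536) (h1 : a1 < 65536)
    (h2 : a2 < 65536) (h3 : a3 < 65536) (h4 : a4 < 65536) (h5 : a5 < 65536) (h6 : a6 < 65536) :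
    dig (pack7 a0 a1 a2 a3 a4 a5 a6) 0 = a0 ∧ dig (pack7 a0 a1 a2 a3 a4 a5 a6) 1 = a1 ∧
      dig (pack7 a0 a1 a2 a3 a4 a5 a6) 2 = a2 ∧ dig (pack7 a0 a1 a2 a3 a4 a5 a6) 3 = a3 ∧
      dig (pack7 a0 a1 a2 a3 a4 a5 a6) 4 = a4 ∧ dig (pack7 a0 a1 a2 a3 a4 a5 a6) 5 = a5 ∧
      dig (pack7 a0 a1 a2 a3 a4 a5 a6) 6 = a6 := by
  simp only [dig, pack7, Nat.reducePow]
  refine ⟨?_, ?_, ?_, ?_, ?_, ?_, ?_⟩ <;> omega

theorem dig_redRow (s : ℕ) (k : Fin 7) : dig (redRow s) k = dig s k % 11 := by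
  obtain ⟨h0, h1, h2, h3, h4, h5, h6⟩ := dig_pack7 (a0 := dig s 0 % 11) (a1 := dig s 1 % 11)
    (a2 := dig s 2 % 11) (a3 := dig s 3 % 11) (a4 := dig s 4 % 11) (a5 := dig s 5 % 11)
    (a6 := dig s 6 % 11) (by omega) (by omega) (by omega) (by omega) (by omega) (by omega) (by omega)
  fin_cases k <;> assumption

theorem dig_lt_of_red {r : ℕ} (h : redRow r = r) (k : Fin 7) : dig r k < 11 := by
  rw [← h, dig_redRow]
  exact Nat.mod_lt _ (by norm_num)

theorem pack7_of_red {r : ℕ} (h : redRow r = r) :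
    pack7 (dig r 0) (dig r 1) (dig r 2) (dig r 3) (dig r 4) (dig r 5) (dig r 6) = r := by
  have hm : ∀ k : Fin 7, dig r k % 11 = dig r k := fun k => Nat.mod_eq_of_lt (dig_lt_of_red h k)
  conv_rhs => rw [← h]
  unfold redRow
  rw [show dig r 0 % 11 = dig r 0 from hm 0, show dig r 1 % 11 = dig r 1 from hm 1,
    show dig r 2 % 11 = dig r 2 from hm 2, show dig r 3 % 11 = dig r 3 from hm 3,
    show dig r 4 % 11 = dig r 4 from hm 4, show dig r 5 % 11 = dig r 5 from hm 5,
    show dig r 6 % 11 = dig r 6 from hm 6]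

theorem pack7_lin (c0 c1 c2 c3 c4 c5 c6 : ℕ) (b : Fin 7 → Fin 7 → ℕ) :
    c0 * pack7 (b 0 0) (b 0 1) (b 0 2) (b 0 3) (b 0 4) (b 0 5) (b 0 6) +
    (c1 * pack7 (b 1 0) (b 1 1) (b 1 2) (b 1 3) (b 1 4) (b 1 5) (b 1 6) +
    (c2 * pack7 (b 2 0) (b 2 1) (b 2 2) (b 2 3) (b 2 4) (b 2 5) (b 2 6) +
    (c3 * pack7 (b 3 0) (b 3 1) (b 3 2) (b 3 3) (b 3 4) (b 3 5) (b 3 6) +
    (c4 * pack7 (b 4 0) (b 4 1) (b 4 2) (b 4 3) (b 4 4) (b 4 5) (b 4 6) +
    (c5 * pack7 (b 5 0) (b 5 1) (b 5 2) (b 5 3) (b 5 4) (b 5 5) (b 5 6) +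
    c6 * pack7 (b 6 0) (b 6 1) (b 6 2) (b 6 3) (b 6 4) (b 6 5) (b 6 6)))))) =
    (let f : Fin 7 → ℕ := fun k =>
      c0 * b 0 k + (c1 * b 1 k + (c2 * b 2 k + (c3 * b 3 k + (c4 * b 4 k + (c5 * b 5 k + c6 * b 6 k)))))
    pack7 (f 0) (f 1) (f 2) (f 3) (f 4) (f 5) (f 6)) := by
  simp only [pack7]
  ring

theorem length_of_canon {A : List ℕ} (h : canon A = true) : A.length = 7 := by
  simp only [canon, Bool.and_eq_true, beq_iff_eq] at h
  exact h.1

theorem red_of_canon {A : List ℕ} (h : canon A = true) (i : Fin 7) :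
    redRow (A.getD i 0) = A.getD i 0 := by
  have hl := length_of_canon h
  simp only [canon, Bool.and_eq_true, List.all_eq_true, beq_iff_eq] at h
  refine h.2 _ ?_
  rw [List.getD_eq_getElem _ _ (by rw [hl]; exact i.isLt)]
  exact List.getElem_mem _

theorem dig_lt {A : List ℕ} (h : canon A = true) (i j : Fin 7) : dig (A.getD i 0) j < 11 :=
  dig_lt_of_red (red_of_canon h i) j

theorem toM_mulC {A B : List ℕ} (hA : canon A = true) (hB : canon B = true) :
    toM (mulC A B) = toM A * toM B := by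
  have hlA := length_of_canon hA
  have hlB := length_of_canon hB
  match B, hlB with
  | [b0, b1, b2, b3, b4, b5, b6], _ =>
    ext i j
    have hr : (mulC A [b0, b1, b2, b3, b4, b5, b6]).getD i 0 =
        redRow (combine (A.getD i 0) b0 b1 b2 b3 b4 b5 b6) := by
      simp only [mulC]
      rw [List.getD_eq_getElem _ _ (by simp [hlA]), List.getD_eq_getElem _ _ (by simp [hlA])]
      simp
    set r := A.getD i 0
    set b : Fin 7 → Fin 7 → ℕ := fun p q => dig (([b0, b1, b2, b3, b4, b5, b6] : List ℕ).getD p 0) q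
      with hb
    have hbl : ∀ p q, b p q < 11 := fun p q => dig_lt hB p q
    have hrl : ∀ q : Fin 7, dig r q < 11 := fun q => dig_lt hA i q
    have e : ∀ p : Fin 7, ([b0, b1, b2, b3, b4, b5, b6] : List ℕ).getD p 0 =
        pack7 (b p 0) (b p 1) (b p 2) (b p 3) (b p 4) (b p 5) (b p 6) := fun p =>
      (pack7_of_red (red_of_canon hB p)).symm
    have hc : combine r b0 b1 b2 b3 b4 b5 b6 =
        (let f : Fin 7 → ℕ := fun k => dig r 0 * b 0 k + (dig r 1 * b 1 k + (dig r 2 * b 2 k +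
          (dig r 3 * b 3 k + (dig r 4 * b 4 k + (dig r 5 * b 5 k + dig r 6 * b 6 k)))))
        pack7 (f 0) (f 1) (f 2) (f 3) (f 4) (f 5) (f 6)) := by
      rw [← pack7_lin, ← e 0, ← e 1, ← e 2, ← e 3, ← e 4, ← e 5, ← e 6]
      rfl
    have hbound : ∀ k : Fin 7, dig r 0 * b 0 k + (dig r 1 * b 1 k + (dig r 2 * b 2 k +
          (dig r 3 * b 3 k + (dig r 4 * b 4 k + (dig r 5 * b 5 k + dig r 6 * b 6 k))))) < 65536 := by
      intro k
      have h1 : ∀ q : Fin 7, dig r q * b q k ≤ 100 := fun q =>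
        Nat.mul_le_mul (Nat.le_of_lt_succ (hrl q)) (Nat.le_of_lt_succ (hbl q k))
      have : dig r 0 * b 0 k ≤ 100 := h1 0
      have : dig r 1 * b 1 k ≤ 100 := h1 1
      have : dig r 2 * b 2 k ≤ 100 := h1 2
      have : dig r 3 * b 3 k ≤ 100 := h1 3
      have : dig r 4 * b 4 k ≤ 100 := h1 4
      have : dig r 5 * b 5 k ≤ 100 := h1 5
      have : dig r 6 * b 6 k ≤ 100 := h1 6
      omega
    obtain ⟨d0, d1, d2, d3, d4, d5, d6⟩ := dig_pack7 (hbound 0) (hbound 1) (hbound 2) (hbound 3)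
      (hbound 4) (hbound 5) (hbound 6)
    have hdig : dig (combine r b0 b1 b2 b3 b4 b5 b6) j = dig r 0 * b 0 j + (dig r 1 * b 1 j +
        (dig r 2 * b 2 j + (dig r 3 * b 3 j + (dig r 4 * b 4 j + (dig r 5 * b 5 j + dig r 6 * b 6 j))))) := by
      rw [hc]
      fin_cases j <;> assumption
    simp only [toM, Matrix.of_apply, Matrix.mul_apply]
    rw [hr, dig_redRow, hdig, ZMod.natCast_mod]
    simp only [Fin.sum_univ_seven, Nat.cast_add, Nat.cast_mul]
    simp only [hb, r, ← add_assoc]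
    rfl

theorem toM_inj {A B : List ℕ} (hA : canon A = true) (hB : canon B = true) (h : toM A = toM B) :
    A = B := by
  have hlA := length_of_canon hA
  have hlB := length_of_canon hB
  refine List.ext_getElem (hlA.trans hlB.symm) fun i h1 h2 => ?_
  have hi : i < 7 := hlA ▸ h1
  have hd : ∀ k : Fin 7, dig (A.getD i 0) k = dig (B.getD i 0) k := fun k => by
    have h3 : ((dig (A.getD i 0) k : ℕ) : ZMod 11) = (dig (B.getD i 0) k : ℕ) :=
      congrFun (congrFun h ⟨i, hi⟩) k
    have h4 := congrArg ZMod.val h3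
    rwa [ZMod.val_natCast_of_lt (dig_lt hA ⟨i, hi⟩ k),
      ZMod.val_natCast_of_lt (dig_lt hB ⟨i, hi⟩ k)] at h4
  have eA := pack7_of_red (red_of_canon hA ⟨i, hi⟩)
  have eB := pack7_of_red (red_of_canon hB ⟨i, hi⟩)
  rw [← List.getD_eq_getElem A 0 h1, ← List.getD_eq_getElem B 0 h2]
  rw [← eA, ← eB]
  simp only [show dig (A.getD i 0) 0 = dig (B.getD i 0) 0 from hd 0,
    show dig (A.getD i 0) 1 = dig (B.getD i 0) 1 from hd 1,
    show dig (A.getD i 0) 2 = dig (B.getD i 0) 2 from hd 2,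
    show dig (A.getD i 0) 3 = dig (B.getD i 0) 3 from hd 3,
    show dig (A.getD i 0) 4 = dig (B.getD i 0) 4 from hd 4,
    show dig (A.getD i 0) 5 = dig (B.getD i 0) 5 from hd 5,
    show dig (A.getD i 0) 6 = dig (B.getD i 0) 6 from hd 6]

theorem toM_idC : toM idC = 1 := by decide +kernel

/-- A code of an invertible matrix whose inverse is the transposed code. -/
def okC (A : List ℕ) : Bool :=
  canon A && canon (trC A) && mulC A (trC A) == idC && mulC (trC A) A == idC

theorem mul_trC {A : List ℕ} (h : okC A = true) :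
    toM A * toM (trC A) = 1 ∧ toM (trC A) * toM A = 1 := by
  simp only [okC, Bool.and_eq_true, beq_iff_eq] at h
  obtain ⟨⟨⟨h1, h2⟩, h3⟩, h4⟩ := h
  exact ⟨by rw [← toM_mulC h1 h2, h3, toM_idC], by rw [← toM_mulC h2 h1, h4, toM_idC]⟩

theorem canon_of_ok {A : List ℕ} (h : okC A = true) : canon A = true := by
  simp only [okC, Bool.and_eq_true] at h
  exact h.1.1.1

/-- The group element of a code (trivial when the code is bad). -/
def gl (A : List ℕ) : GL (Fin 7) (ZMod 11) :=
  if h : okC A = true then ⟨toM A, toM (trC A), (mul_trC h).1, (mul_trC h).2⟩ else 1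

theorem val_gl {A : List ℕ} (h : okC A = true) :
    ((gl A : GL (Fin 7) (ZMod 11)) : Matrix (Fin 7) (Fin 7) (ZMod 11)) = toM A := by
  rw [gl, dif_pos h]

theorem gl_mul {A B C : List ℕ} (hA : okC A = true) (hB : okC B = true) (hC : okC C = true)
    (h : mulC A B = C) : gl A * gl B = gl C := by
  refine Units.ext ?_
  rw [Units.val_mul, val_gl hA, val_gl hB, val_gl hC, ← toM_mulC (canon_of_ok hA) (canon_of_ok hB), h]

theorem gl_mul_eq {A B C D : List ℕ} (hA : okC A = true) (hB : okC B = true) (hC : okC C = true)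
    (hD : okC D = true) (h : mulC A B = mulC C D) : gl A * gl B = gl C * gl D := by
  refine Units.ext ?_
  rw [Units.val_mul, Units.val_mul, val_gl hA, val_gl hB, val_gl hC, val_gl hD,
    ← toM_mulC (canon_of_ok hA) (canon_of_ok hB), h, toM_mulC (canon_of_ok hC) (canon_of_ok hD)]

theorem gl_idC : gl idC = 1 := Units.ext ((val_gl (by decide +kernel)).trans toM_idC)

theorem gl_inj {A B : List ℕ} (hA : okC A = true) (hB : okC B = true) (h : gl A = gl B) : A = B :=
  toM_inj (canon_of_ok hA) (canon_of_ok hB)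
    (by rw [← val_gl hA, ← val_gl hB, h])

/-- The first column of `B` is the vector `u` (packed), scaled by `c`, in `A`. -/
def colIs (A : List ℕ) (c u : ℕ) : Bool :=
  (List.range 7).all fun i => dig (A.getD i 0) 0 == c * dig u i % 11

theorem col_eq {A : List ℕ} {c u : ℕ} (h : colIs A c u = true) (i : Fin 7) :
    toM A i 0 = (c : ZMod 11) * (dig u i : ZMod 11) := by
  simp only [colIs, List.all_eq_true, List.mem_range, beq_iff_eq] at h
  simp only [toM, Matrix.of_apply, Fin.val_zero]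
  rw [h i i.isLt, ZMod.natCast_mod, Nat.cast_mul]

/-- The packed vector has first non-zero entry 1. -/
def lead (u : ℕ) : Bool :=
  redRow u == u && (List.range 7).any fun m => dig u m == 1 && (List.range m).all fun k => dig u k == 0

theorem line_eq_of_lead {u w : ℕ} (hu : lead u = true) (hw : lead w = true) {c : ZMod 11}
    (hc : c ≠ 0) (h : ∀ i : Fin 7, (dig u i : ZMod 11) = c * (dig w i : ZMod 11)) : u = w := by
  simp only [lead, Bool.and_eq_true, List.any_eq_true, List.all_eq_true, List.mem_range,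
    beq_iff_eq] at hu hw
  obtain ⟨hur, m, hm, hum, huz⟩ := hu
  obtain ⟨hwr, n, hn, hwn, hwz⟩ := hw
  have := Fact.mk (show Nat.Prime 11 by norm_num)
  have hmn : m = n := by
    rcases Nat.lt_trichotomy m n with hlt | heq | hgt
    · have h1 := h ⟨m, hm⟩
      rw [show dig u m = 1 from hum, show dig w m = 0 from hwz m hlt] at h1
      simp at h1
    · exact heq
    · have h1 := h ⟨n, hn⟩
      rw [show dig u n = 0 from huz n hgt, show dig w n = 1 from hwn] at h1
      simp [hc.symm] at h1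
  subst hmn
  have hc1 : c = 1 := by
    have h1 := h ⟨m, hm⟩
    rw [show dig u m = 1 from hum, show dig w m = 1 from hwn] at h1
    simpa using h1.symm
  have hd : ∀ k : Fin 7, dig u k = dig w k := fun k => by
    have h1 := congrArg ZMod.val (h k)
    rw [hc1, one_mul] at h1
    rwa [ZMod.val_natCast_of_lt (dig_lt_of_red hur k),
      ZMod.val_natCast_of_lt (dig_lt_of_red hwr k)] at h1
  rw [← pack7_of_red hur, ← pack7_of_red hwr]
  simp only [show dig u 0 = dig w 0 from hd 0, show dig u 1 = dig w 1 from hd 1,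
    show dig u 2 = dig w 2 from hd 2, show dig u 3 = dig w 3 from hd 3,
    show dig u 4 = dig w 4 from hd 4, show dig u 5 = dig w 5 from hd 5,
    show dig u 6 = dig w 6 from hd 6]

end Cfsg.Agent.JankoOne
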