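import Cfsg.Agent.Lib.JankoOne.Order
import Cfsg.Agent.Lib.Schur.Singer

/-!
Elements of J1 given by coset and stabiliser position, with their products computed on codes.
Main results: `prodC`, `jel`, `jprod_eq`, the elements `jA jB jC jN jThree jFive jSeven jEleven jNineteen`
and their orders, `eight_dvd_card`.
-/

set_option autoImplicit false

namespace Cfsg.Agent.JankoOne

/-- The code of `elt i k`. -/
def eltC (u : ℕ × ℕ) : List ℕ := mulC (rep u.1) (stab u.2)

/-- The product of the codes. -/
def prodC : List (ℕ × ℕ) → List ℕ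
  | [] => idC
  | u :: w => mulC (eltC u) (prodC w)

/-- The positions are in range and their codes invertible. -/
def okPos (u : ℕ × ℕ) : Bool := decide (u.1 < 1540) && decide (u.2 < 114) && okC (eltC u)

/-- All positions are good and so are the codes of all partial products. -/
def okWord : List (ℕ × ℕ) → Bool
  | [] => true
  | u :: w => okPos u && okWord w && okC (mulC (eltC u) (prodC w))

/-- The element of J1 at a position (trivial for a bad position). -/
noncomputable def jel (u : ℕ × ℕ) : ↥Cfsg.Spor.J1 :=
  if h : u.1 < 1540 ∧ u.2 < 114 then ⟨elt u.1 u.2, elt_mem h.1 h.2⟩ else 1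

theorem val_jel {u : ℕ × ℕ} (h : okPos u = true) :
    (jel u : GL (Fin 7) (ZMod 11)) = gl (eltC u) := by
  simp only [okPos, Bool.and_eq_true, decide_eq_true_eq] at h
  obtain ⟨⟨h1, h2⟩, h3⟩ := h
  rw [jel, dif_pos ⟨h1, h2⟩]
  exact gl_mul (ptFacts h1).ok (stab_ok h2) h3 rfl

theorem val_prod : ∀ {w : List (ℕ × ℕ)}, okWord w = true →
    okC (prodC w) = true ∧ (((w.map jel).prod : ↥Cfsg.Spor.J1) : GL (Fin 7) (ZMod 11)) = gl (prodC w)
  | [], _ => ⟨(by decide +kernel : okC idC = true), by simp [prodC, gl_idC]⟩
  | u :: w, h => by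
    simp only [okWord, Bool.and_eq_true] at h
    obtain ⟨⟨h1, h2⟩, h3⟩ := h
    obtain ⟨h4, h5⟩ := val_prod h2
    have hu : okC (eltC u) = true := by
      simp only [okPos, Bool.and_eq_true] at h1
      exact h1.2
    refine ⟨h3, ?_⟩
    rw [List.map_cons, List.prod_cons, Subgroup.coe_mul, val_jel h1, h5]
    exact gl_mul hu h4 h3 rfl

/-- Equality of two products of positions, decided on codes. -/
def chkEq (w v : List (ℕ × ℕ)) : Bool := okWord w && okWord v && prodC w == prodC v

/-- Inequality of two products of positions, decided on codes. -/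
def chkNe (w v : List (ℕ × ℕ)) : Bool := okWord w && okWord v && !(prodC w == prodC v)

theorem jprod_eq {w v : List (ℕ × ℕ)} (h : chkEq w v = true) :
    (w.map jel).prod = (v.map jel).prod := by
  simp only [chkEq, Bool.and_eq_true, beq_iff_eq] at h
  refine Subtype.ext ?_
  rw [(val_prod h.1.1).2, (val_prod h.1.2).2, h.2]

theorem jprod_ne {w v : List (ℕ × ℕ)} (h : chkNe w v = true) :
    (w.map jel).prod ≠ (v.map jel).prod := by
  simp only [chkNe, Bool.and_eq_true, Bool.not_eq_true', beq_eq_false_iff_ne] at h
  intro e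
  refine h.2 (gl_inj (val_prod h.1.1).1 (val_prod h.1.2).1 ?_)
  rw [← (val_prod h.1.1).2, ← (val_prod h.1.2).2, e]

/-- An involution. -/
noncomputable def jA : ↥Cfsg.Spor.J1 := jel (1089, 95)
/-- An involution commuting with `jA`. -/
noncomputable def jB : ↥Cfsg.Spor.J1 := jel (9, 111)
/-- An involution completing `jA, jB` to a subgroup of order 8. -/
noncomputable def jC : ↥Cfsg.Spor.J1 := jel (1483, 85)
/-- An element of order 7 with `jA ↦ jB ↦ jC ↦ jA jB`. -/
noncomputable def jN : ↥Cfsg.Spor.J1 := jel (1070, 93)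
/-- An element of order 3. -/
noncomputable def jThree : ↥Cfsg.Spor.J1 := jel (503, 72)
/-- An element of order 5. -/
noncomputable def jFive : ↥Cfsg.Spor.J1 := jel (510, 88)
/-- An element of order 7. -/
noncomputable def jSeven : ↥Cfsg.Spor.J1 := jel (1146, 109)
/-- An element of order 11. -/
noncomputable def jEleven : ↥Cfsg.Spor.J1 := jel (602, 63)
/-- An element of order 19. -/
noncomputable def jNineteen : ↥Cfsg.Spor.J1 := jel (rootIdx, 6)

theorem orderOf_jel {p : ℕ} (hp : p.Prime) (u : ℕ × ℕ)
    (h : (chkEq (List.replicate p u) [] && chkNe [u] []) = true) : orderOf (jel u) = p := by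
  have := Fact.mk hp
  rw [Bool.and_eq_true] at h
  refine orderOf_eq_prime ?_ ?_
  · have h1 := jprod_eq h.1
    rwa [List.map_replicate, List.prod_replicate, List.map_nil, List.prod_nil] at h1
  · simpa using jprod_ne h.2

theorem orderOf_jA : orderOf jA = 2 := orderOf_jel (by norm_num) _ (by decide +kernel)
theorem orderOf_jB : orderOf jB = 2 := orderOf_jel (by norm_num) _ (by decide +kernel)
theorem orderOf_jC : orderOf jC = 2 := orderOf_jel (by norm_num) _ (by decide +kernel)
theorem orderOf_jN : orderOf jN = 7 := orderOf_jel (by norm_num) _ (by decide +kernel)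
theorem orderOf_jThree : orderOf jThree = 3 := orderOf_jel (by norm_num) _ (by decide +kernel)
theorem orderOf_jFive : orderOf jFive = 5 := orderOf_jel (by norm_num) _ (by decide +kernel)
theorem orderOf_jSeven : orderOf jSeven = 7 := orderOf_jel (by norm_num) _ (by decide +kernel)
theorem orderOf_jEleven : orderOf jEleven = 11 := orderOf_jel (by norm_num) _ (by decide +kernel)
theorem orderOf_jNineteen : orderOf jNineteen = 19 := orderOf_jel (by norm_num) _ (by decide +kernel)

theorem commute_jA_jB : Commute jA jB := by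
  simpa [Commute, SemiconjBy, jA, jB] using
    jprod_eq (w := [(1089, 95), (9, 111)]) (v := [(9, 111), (1089, 95)]) (by decide +kernel)

theorem commute_jA_jC : Commute jA jC := by
  simpa [Commute, SemiconjBy, jA, jC] using
    jprod_eq (w := [(1089, 95), (1483, 85)]) (v := [(1483, 85), (1089, 95)]) (by decide +kernel)

theorem commute_jB_jC : Commute jB jC := by
  simpa [Commute, SemiconjBy, jB, jC] using
    jprod_eq (w := [(9, 111), (1483, 85)]) (v := [(1483, 85), (9, 111)]) (by decide +kernel)

theorem jN_jA : jN * jA * jN⁻¹ = jB := by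
  have h := jprod_eq (w := [(1070, 93), (1089, 95)]) (v := [(9, 111), (1070, 93)]) (by decide +kernel)
  simp only [List.map_cons, List.map_nil, List.prod_cons, List.prod_nil, mul_one] at h
  rw [jN, jA, jB, h, mul_inv_cancel_right]

theorem jN_jB : jN * jB * jN⁻¹ = jC := by
  have h := jprod_eq (w := [(1070, 93), (9, 111)]) (v := [(1483, 85), (1070, 93)]) (by decide +kernel)
  simp only [List.map_cons, List.map_nil, List.prod_cons, List.prod_nil, mul_one] at h
  rw [jN, jB, jC, h, mul_inv_cancel_right]

theorem jN_jC : jN * jC * jN⁻¹ = jA * jB := by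
  have h := jprod_eq (w := [(1070, 93), (1483, 85)]) (v := [(1089, 95), (9, 111), (1070, 93)])
    (by decide +kernel)
  simp only [List.map_cons, List.map_nil, List.prod_cons, List.prod_nil, mul_one] at h
  rw [jN, jA, jB, jC, h, ← mul_assoc, mul_inv_cancel_right]

/-- The word `jA ^ i * jB ^ j * jC ^ k`. -/
def eightWord (t : Fin 2 × Fin 2 × Fin 2) : List (ℕ × ℕ) :=
  List.replicate t.1 (1089, 95) ++ (List.replicate t.2.1 (9, 111) ++ List.replicate t.2.2 (1483, 85))

theorem eight_dvd_card : 8 ∣ Nat.card (Subgroup.closure {jA, jB, jC}) := by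
  have := Fact.mk Nat.prime_two
  set H := Subgroup.closure {jA, jB, jC} with hH
  have hsq : ∀ x ∈ H, x ^ 2 = 1 := by
    intro x hx
    induction hx using Subgroup.closure_induction with
    | mem x hx =>
      rcases hx with rfl | rfl | rfl
      · rw [← orderOf_jA, pow_orderOf_eq_one]
      · rw [← orderOf_jB, pow_orderOf_eq_one]
      · rw [← orderOf_jC, pow_orderOf_eq_one]
    | one => exact one_pow 2
    | mul x y hx hy ihx ihy =>
      have h : Commute x y := Schur.commute_of_mem_closure_triple commute_jA_jB commute_jA_jC commute_jB_jC hx hy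
      rw [h.mul_pow, ihx, ihy, one_mul]
    | inv x _ ih => rw [inv_pow, ih, inv_one]
  have hp : IsPGroup 2 H := fun x => ⟨1, Subtype.ext (hsq x x.2)⟩
  obtain ⟨n, hn⟩ := hp.exists_card_eq
  have hmem : ∀ t, ((eightWord t).map jel).prod ∈ H := by
    intro t
    refine list_prod_mem fun x hx => ?_
    simp only [eightWord, List.map_append, List.mem_append, List.map_replicate, List.mem_replicate] at hx
    rcases hx with ⟨-, rfl⟩ | ⟨-, rfl⟩ | ⟨-, rfl⟩
    · exact Subgroup.subset_closure (Set.mem_insert _ _)
    · exact Subgroup.subset_closure (Set.mem_insert_of_mem _ (Set.mem_insert _ _))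
    · exact Subgroup.subset_closure
        (Set.mem_insert_of_mem _ (Set.mem_insert_of_mem _ (Set.mem_singleton _)))
  have hne : ∀ s t : Fin 2 × Fin 2 × Fin 2, s ≠ t → chkNe (eightWord s) (eightWord t) = true := by
    decide +kernel
  have h8 : Nat.card (Fin 2 × Fin 2 × Fin 2) ≤ Nat.card H :=
    Nat.card_le_card_of_injective (fun t => (⟨_, hmem t⟩ : H)) fun s t e =>
      by_contra fun h => jprod_ne (hne s t h) (congrArg Subtype.val e)
  simp only [Nat.card_prod, Nat.card_fin, hn] at h8
  rw [hn]
  exact pow_dvd_pow 2 ((Nat.pow_le_pow_iff_right (by norm_num : 1 < 2)).1 (show 2 ^ 3 ≤ 2 ^ n from h8))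

end Cfsg.Agent.JankoOne
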