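import Cfsg.Agent.Lib.JankoOne.Elements
import Cfsg.Agent.Lib.Schur.Singer

/-!
The Schur multiplier of J1 is trivial.
Main result: `hasCyclicSchurMultiplier_j1`.
-/

set_option autoImplicit false

namespace Cfsg.Agent.JankoOne

theorem not_dvd_index_of_dvd_card {p n : ℕ} (H : Subgroup ↥Cfsg.Spor.J1) (hn : n ∣ Nat.card H)
    (hp : ¬ p ∣ 175560 / n) : ¬ p ∣ H.index := by
  intro h
  refine hp (h.trans ?_)
  have h1 := H.card_mul_index
  rw [natCard_j1] at h1
  obtain ⟨m, hm⟩ := hn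
  have hn0 : 0 < n := by
    rcases Nat.eq_zero_or_pos n with rfl | h0
    · simp [Nat.card_pos.ne'] at hm
    · exact h0
  rw [← h1, hm, mul_assoc, Nat.mul_div_cancel_left _ hn0]
  exact dvd_mul_left _ _

theorem prime_dvd_order {p : ℕ} (hp : p.Prime) (h : p ∣ 175560) :
    p = 2 ∨ p = 3 ∨ p = 5 ∨ p = 7 ∨ p = 11 ∨ p = 19 := by
  have h' : p ∣ 2 ^ 3 * 3 * 5 * 7 * 11 * 19 := by simpa using h
  simp only [hp.dvd_mul] at h'
  rcases h' with ((((h | h) | h) | h) | h) | h
  · exact Or.inl ((Nat.prime_dvd_prime_iff_eq hp Nat.prime_two).1 (hp.dvd_of_dvd_pow h))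
  all_goals
    have := (Nat.prime_dvd_prime_iff_eq hp (by norm_num)).1 h
    subst this
    simp

theorem hasCyclicSchurMultiplier_j1 : Cfsg.HasCyclicSchurMultiplier ↥Cfsg.Spor.J1 1 := by
  refine Schur.hasCyclicSchurMultiplier_one fun Γ _ _ σ hσ p hp k z hz hord => ?_
  by_cases hd : p ∣ 175560
  swap
  · refine Schur.eq_one_of_cyclic hσ hp 1
      (not_dvd_index_of_dvd_card (n := 1) _ (one_dvd _) ?_) hz hord
    simpa using hd
  have cyc : ∀ g : ↥Cfsg.Spor.J1, orderOf g = p → ¬ p ∣ 175560 / p → z = 1 := fun g hg h =>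
    Schur.eq_one_of_cyclic hσ hp g
      (not_dvd_index_of_dvd_card _ (by rw [Nat.card_zpowers, hg]) h) hz hord
  rcases prime_dvd_order hp hd with rfl | rfl | rfl | rfl | rfl | rfl
  · exact Schur.eq_one_of_singer hσ hp jA jB jC jN commute_jA_jB commute_jA_jC commute_jB_jC
      jN_jA jN_jB jN_jC (not_dvd_index_of_dvd_card _ eight_dvd_card (by norm_num)) hz hord
  · exact cyc jThree orderOf_jThree (by norm_num)
  · exact cyc jFive orderOf_jFive (by norm_num)
  · exact cyc jSeven orderOf_jSeven (by norm_num)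
  · exact cyc jEleven orderOf_jEleven (by norm_num)
  · exact cyc jNineteen orderOf_jNineteen (by norm_num)

end Cfsg.Agent.JankoOne
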